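import Cfsg.Agent.Mrg.Omega.VP
import Cfsg.Agent.Mrg.Omega.FF.GlobFam
import Cfsg.Agent.MinSimple.VModule


/-!
# SQ0: from the global theorem (`q ≥ 4`) to `AbsNat`

`Out V T k A B`: the outcome of the global part: `L i = A i ⊔ B i = SL₂(F)`, `X = (∏ L i) T`, `V / C_V(L i)` natural.
`Out.absNat`: then `AbsNat F T V k`.
-/

set_option autoImplicit false
set_option linter.unusedSectionVars false

namespace Cfsg.Agent.Omega.FFBr

open Subgroup Cfsg.Agent.ClassTwoFusion.Quad Cfsg.Agent.Omega.FF.Glob Cfsg.Agent.LieClassical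
open Cfsg.Agent.Lib.SL2Mat
open Cfsg.Agent.Omega.NatPair (ap ap_eq_mulVec ap_one ap_mul ap_zero' ap_one' ext2)

variable {X V : Type*} [Group X] [Group V] [MulDistribMulAction X V]

/-- the outcome of the global theorem -/
structure Out (V : Type*) [Group V] [MulDistribMulAction X V] (T : Subgroup X) (k : ℕ)
    (A B : Fin k → Subgroup X) : Prop where
  comm : ∀ v w : V, v * w = w * v
  sq : ∀ v : V, v * v = 1
  two : IsPGroup 2 T
  nat : ∀ i, Nat2 V (A i) (B i)
  le : ∀ i, A i ≤ T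
  card4 : ∀ i, 4 ≤ Nat.card (A i)
  LL : ∀ i j, i ≠ j → ∀ x ∈ A i ⊔ B i, ∀ y ∈ A j ⊔ B j, x * y = y * x
  mod : ∀ i j, i ≠ j → ∀ x ∈ A i ⊔ B i, ∀ y ∈ A j ⊔ B j, ∀ v : V, y • (d x v) = d x v
  cjL : ∀ (g : X) (i : Fin k), ∃ j, cj g (A i ⊔ B i) = A j ⊔ B j
  cjA : ∀ t ∈ T, ∀ i, ∃ j, cj t (A i) = A j
  trans : ∀ i j, ∃ t ∈ T, cj t (A i) = A j
  gen : ∀ K : Subgroup X, T ≤ K → (∀ i, A i ⊔ B i ≤ K) → K = ⊤
  off : ∀ E : Subgroup X, E ≤ T → AOff V E → ∃ I : Set (Fin k), E = ⨆ i ∈ I, A i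

/-! ### One block -/

section one

variable {A B : Subgroup X} {F : Type} [Field F] {π : V → (Fin 2 → F)}
  {φ : ↥(A ⊔ B) →* Matrix.SpecialLinearGroup (Fin 2) F} (h : NatAt A B π φ)
include h

theorem act' {x : X} (hx : x ∈ A ⊔ B) : ∃ M, ∀ v, π (x • v) = ap M (π v) :=
  ⟨φ ⟨x, hx⟩, fun v => by rw [ap_eq_mulVec]; exact h.act ⟨x, hx⟩ v⟩

theorem full' (M : Matrix.SpecialLinearGroup (Fin 2) F) : ∃ x ∈ A ⊔ B, ∀ v, π (x • v) = ap M (π v) := by
  obtain ⟨x, hx⟩ := h.bij.2 M
  exact ⟨x, x.2, fun v => by rw [ap_eq_mulVec, ← hx]; exact h.act x v⟩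

theorem ap_up' (b : F) (w : Fin 2 → F) : ap (up b) w = ![w 0 + b * w 1, w 1] := by
  apply ext2
  · rw [ap_zero']; simp
  · rw [ap_one']; simp

theorem actA' {x : X} (hx : x ∈ A) : ∃ b : F, ∀ v, π (x • v) = ap (up b) (π v) := by
  obtain ⟨c, -, hc⟩ := h.u_act hx
  exact ⟨c, fun v => by rw [ap_up' h]; exact hc v⟩

theorem fullA' (b : F) : ∃ x ∈ A, (b = 0 → x = 1) ∧ ∀ v, π (x • v) = ap (up b) (π v) := by
  obtain ⟨x, hx, h1, h2⟩ := h.exists_u b
  exact ⟨x, hx, h1.2, fun v => by rw [ap_up' h]; exact h2 v⟩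

theorem dg_pow {a : F} (ha : a ≠ 0) (n : ℕ) : (dg a ha) ^ n = dg (a ^ n) (pow_ne_zero n ha) := by
  induction n with
  | zero =>
    rw [pow_zero]
    apply ext_ent <;> simp
  | succ n ih =>
    rw [pow_succ, ih]
    apply ext_ent <;> simp [ent_mul, pow_succ, mul_comm]

/-- a vector fixed by all elements of odd order is fixed by `⟨A, B⟩` -/
theorem fix_of_odd [Finite F] [CharP F 2] [Finite X] (hA : 4 ≤ Nat.card A) {v : V}
    (hv : ∀ x : X, Odd (orderOf x) → x • v = v) : ∀ x ∈ A ⊔ B, x • v = v := by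
  -- `|F| ≥ 4`
  have hF : 4 ≤ Nat.card F := by
    refine hA.trans ?_
    choose c hc using fun x : A => (h.memA ⟨x, mem_sup_left x.2⟩).1 x.2
    refine Nat.card_le_card_of_injective c fun x y hxy => ?_
    have h1 : φ ⟨x, mem_sup_left x.2⟩ = φ ⟨y, mem_sup_left y.2⟩ := by rw [hc, hc, hxy]
    exact Subtype.ext (congrArg (fun z : ↥(A ⊔ B) => (z : X)) (h.bij.1 h1))
  have : Fintype F := Fintype.ofFinite F
  obtain ⟨a, ha0, ha1⟩ : ∃ a : F, a ≠ 0 ∧ a ≠ 1 := by
    by_contra hcon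
    push Not at hcon
    have h1 : Nat.card F ≤ 2 := by
      rw [Nat.card_eq_fintype_card, ← Finset.card_univ]
      classical
      refine (Finset.card_le_card (t := {0, 1}) fun x _ => ?_).trans Finset.card_le_two
      rw [Finset.mem_insert, Finset.mem_singleton]
      by_cases hx : x = 0
      · exact Or.inl hx
      · exact Or.inr (hcon x hx)
    omega
  obtain ⟨x, hx⟩ := h.bij.2 (dg a ha0)
  have hodd : Odd (orderOf (x : X)) := by
    rw [orderOf_coe, ← orderOf_injective φ h.bij.1, hx]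
    have h1 : (dg a ha0) ^ (Fintype.card F - 1) = 1 := by
      rw [dg_pow h]
      apply ext_ent <;> simp [FiniteField.pow_card_sub_one_eq_one a ha0]
    have h2 : Odd (Fintype.card F - 1) := by
      obtain ⟨n, -, hn⟩ := FiniteField.card F 2
      rw [hn]
      have h3 := n.pos
      obtain ⟨m, hm⟩ : ∃ m, (n : ℕ) = m + 1 := ⟨n - 1, by omega⟩
      rw [hm, pow_succ]
      exact ⟨2 ^ m - 1, by have := Nat.one_le_two_pow (n := m); omega⟩
    exact Odd.of_dvd_nat h2 (orderOf_dvd_of_pow_eq_one h1)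
  have h1 := h.act x v
  rw [hv _ hodd, hx, ← ap_eq_mulVec] at h1
  refine (h.ker v).1 (ext2 ?_ ?_)
  · have h2 := congrFun h1 0
    rw [ap_zero'] at h2
    simp only [dg_00, dg_01, zero_mul, add_zero] at h2
    have h3 : (a - 1) * π v 0 = 0 := by rw [sub_mul, one_mul, ← h2, sub_self]
    exact (mul_eq_zero.1 h3).resolve_left (sub_ne_zero.2 ha1)
  · have h2 := congrFun h1 1
    rw [ap_one'] at h2
    simp only [dg_10, dg_11, zero_mul, zero_add] at h2
    have h3 : (a⁻¹ - 1) * π v 1 = 0 := by rw [sub_mul, one_mul, ← h2, sub_self]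
    exact (mul_eq_zero.1 h3).resolve_left (sub_ne_zero.2 fun h4 => ha1 (inv_eq_one.1 h4))

end one

/-! ### Coordinates -/

/-- coordinates for all blocks -/
structure Coo (F : Type) [Field F] (k : ℕ) (A L : Fin k → Subgroup X) (e : V → Fin k → Fin 2 → F) : Prop where
  AL : ∀ i, A i ≤ L i
  mul : ∀ v w, e (v * w) = e v + e w
  surj1 : ∀ i (y : Fin 2 → F), ∃ v, e v i = y
  ker : ∀ i v, e v i = 0 ↔ ∀ x ∈ L i, x • v = v
  kerA : ∀ i v, e v i 1 = 0 ↔ ∀ a ∈ A i, a • v = v
  act : ∀ i, ∀ x ∈ L i, ∃ M, ∀ v, e (x • v) i = ap M (e v i)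
  full : ∀ i M, ∃ x ∈ L i, ∀ v, e (x • v) i = ap M (e v i)
  actA : ∀ i, ∀ x ∈ A i, ∃ b : F, ∀ v, e (x • v) i = ap (up b) (e v i)
  fullA : ∀ i (b : F), ∃ x ∈ A i, (b = 0 → x = 1) ∧ ∀ v, e (x • v) i = ap (up b) (e v i)

theorem coo_of {F : Type} [Field F] {k : ℕ} {A L : Fin k → Subgroup X} (π : Fin k → V → (Fin 2 → F))
    (h : ∀ i, ∃ (A' B' : Subgroup X) (φ : ↥(A' ⊔ B') →* Matrix.SpecialLinearGroup (Fin 2) F),
      NatAt A' B' (π i) φ ∧ A' = A i ∧ A' ⊔ B' = L i) : Coo F k A L fun v i => π i v where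
  AL i := by
    obtain ⟨A', B', φ, -, h2, h3⟩ := h i
    rw [← h2, ← h3]; exact le_sup_left
  mul v w := by
    funext i
    obtain ⟨A', B', φ, h1, -, -⟩ := h i
    exact h1.mul v w
  surj1 i y := by
    obtain ⟨A', B', φ, h1, -, -⟩ := h i
    exact h1.surj y
  ker i v := by
    obtain ⟨A', B', φ, h1, -, h3⟩ := h i
    rw [← h3]; exact h1.ker v
  kerA i v := by
    obtain ⟨A', B', φ, h1, h2, -⟩ := h i
    rw [← h2]; exact h1.kerA v
  act i x hx := by
    obtain ⟨A', B', φ, h1, -, h3⟩ := h i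
    rw [← h3] at hx; exact act' h1 hx
  full i M := by
    obtain ⟨A', B', φ, h1, -, h3⟩ := h i
    rw [← h3]; exact full' h1 M
  actA i x hx := by
    obtain ⟨A', B', φ, h1, h2, -⟩ := h i
    rw [← h2] at hx; exact actA' h1 hx
  fullA i b := by
    obtain ⟨A', B', φ, h1, h2, -⟩ := h i
    rw [← h2]; exact fullA' h1 b

namespace Out

variable {T : Subgroup X} {k : ℕ} {A B : Fin k → Subgroup X} (o : Out V T k A B)
include o

/-- `L i` contains only one of the `A j` -/
theorem eq_of_cj {g : X} {i j : Fin k} (hg : cj g (A i) = A j) : cj g (A i ⊔ B i) = A j ⊔ B j := by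
  obtain ⟨m, hm⟩ := o.cjL g i
  by_cases hjm : j = m
  · rw [hjm]; exact hm
  exfalso
  -- `A j ≤ L m`, so `A j` centralises `L j`
  have h1 : A j ≤ A m ⊔ B m := by
    rw [← hm, ← hg]
    exact cj_mono le_sup_left
  obtain ⟨F, _, _, π, φ, h⟩ := o.nat j
  obtain ⟨a, ha, h2, h3⟩ := h.exists_u (1 : F)
  obtain ⟨x, hx, h4⟩ := full' h (lo 1)
  have h5 := o.LL j m hjm x hx a (h1 ha)
  obtain ⟨v, hv⟩ := h.surj ![1, 0]
  have h6 : π ((x * a) • v) = π ((a * x) • v) := by rw [h5]
  rw [mul_smul, mul_smul, h4, h3, h3, h4, hv] at h6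
  have h7 := congrFun h6 0
  rw [ap_zero'] at h7
  simp [ap_zero', ap_one'] at h7

/-- the common coordinates -/
theorem exists_coo (hk : 0 < k) : ∃ (F : Type) (_ : Field F) (_ : Finite F) (_ : CharP F 2)
    (e : V → Fin k → Fin 2 → F), Coo F k A (fun i => A i ⊔ B i) e := by
  obtain ⟨F, i1, i2, π, φ, h⟩ := o.nat ⟨0, hk⟩
  choose t _ ht using fun i => o.trans ⟨0, hk⟩ i
  have hchar : CharP F 2 := by
    have h1 := h.char2 o.sq (1 : F)
    exact CharTwo.of_one_ne_zero_of_two_eq_zero one_ne_zero (by rw [← one_add_one_eq_two]; exact h1)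
  refine ⟨F, i1, inferInstance, hchar, fun v i => π ((t i)⁻¹ • v), ?_⟩
  refine coo_of (fun i v => π ((t i)⁻¹ • v)) fun i => ?_
  refine ⟨_, _, _, h.toCj (t i), ht i, ?_⟩
  rw [← cj_sup]
  exact o.eq_of_cj (ht i)


/-- an `A j` in `L m` has `j = m` -/
theorem eq_of_le {j m : Fin k} (h1 : A j ≤ A m ⊔ B m) : j = m := by
  by_contra hjm
  obtain ⟨F, _, _, π, φ, h⟩ := o.nat j
  obtain ⟨a, ha, h2, h3⟩ := h.exists_u (1 : F)
  obtain ⟨x, hx, h4⟩ := full' h (lo 1)
  have h5 := o.LL j m hjm x hx a (h1 ha)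
  obtain ⟨v, hv⟩ := h.surj ![1, 0]
  have h6 : π ((x * a) • v) = π ((a * x) • v) := by rw [h5]
  rw [mul_smul, mul_smul, h4, h3, h3, h4, hv] at h6
  have h7 := congrFun h6 0
  rw [ap_zero'] at h7
  simp [ap_zero', ap_one'] at h7

theorem L_inj {i j : Fin k} (h : A i ⊔ B i = A j ⊔ B j) : i = j := o.eq_of_le (by rw [← h]; exact le_sup_left)

theorem A_inj {i j : Fin k} (h : A i = A j) : i = j := o.eq_of_le (by rw [h]; exact le_sup_left)

section coo

variable {F : Type} [Field F] [Finite F] [CharP F 2] {e : V → Fin k → Fin 2 → F}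
  (C : Coo F k A (fun i => A i ⊔ B i) e)
include C

theorem add_self (w : Fin 2 → F) : w + w = 0 := by
  funext i
  exact CharTwo.add_self_eq_zero (w i)

theorem e_d {x : X} {v : V} (i : Fin k) : e (d x v) i = e (x • v) i + e v i := by
  unfold d
  rw [C.mul]; rfl

theorem triv {i j : Fin k} (hij : i ≠ j) {x : X} (hx : x ∈ A i ⊔ B i) (v : V) : e (x • v) j = e v j := by
  have h1 : e (d x v) j = 0 := (C.ker j _).2 fun y hy => o.mod i j hij x hx y hy v
  rw [o.e_d C] at h1
  have h2 : e (x • v) j + e v j + e v j = e v j := by rw [h1, zero_add]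
  rwa [add_assoc, o.add_self C, add_zero] at h2

/-- products over the blocks -/
theorem exists_prod (x : Fin k → X) (hx : ∀ i, x i ∈ A i ⊔ B i)
    (M : Fin k → Matrix.SpecialLinearGroup (Fin 2) F) (hM : ∀ i v, e (x i • v) i = ap (M i) (e v i)) :
    ∃ g : X, (∀ K : Subgroup X, (∀ i, x i ∈ K) → g ∈ K) ∧ ∀ v i, e (g • v) i = ap (M i) (e v i) := by
  classical
  have key : ∀ s : Finset (Fin k), ∃ g : X, (∀ K : Subgroup X, (∀ i, x i ∈ K) → g ∈ K) ∧
      (∀ v, ∀ i ∈ s, e (g • v) i = ap (M i) (e v i)) ∧ ∀ v, ∀ i ∉ s, e (g • v) i = e v i := by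
    intro s
    induction s using Finset.induction_on with
    | empty => exact ⟨1, fun K _ => one_mem K, fun v i hi => absurd hi (Finset.notMem_empty i),
        fun v i _ => by rw [one_smul]⟩
    | insert j s hj ih =>
      obtain ⟨g, h1, h2, h3⟩ := ih
      refine ⟨x j * g, fun K hK => mul_mem (hK j) (h1 K hK), fun v i hi => ?_, fun v i hi => ?_⟩
      · rw [mul_smul]
        rcases Finset.mem_insert.1 hi with rfl | hi
        · rw [hM, h3 v i hj]
        · have hne : j ≠ i := fun h4 => hj (h4 ▸ hi)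
          rw [o.triv C hne (hx j), h2 v i hi]
      · rw [Finset.mem_insert, not_or] at hi
        rw [mul_smul, o.triv C (Ne.symm hi.1) (hx j), h3 v i hi.2]
  obtain ⟨g, h1, h2, -⟩ := key Finset.univ
  exact ⟨g, h1, fun v i => h2 v i (Finset.mem_univ i)⟩

theorem e_one : e 1 = 0 := by
  have h1 := C.mul 1 1
  rw [mul_one] at h1
  exact left_eq_add.1 h1

theorem single (j : Fin k) (y : Fin 2 → F) : ∃ v, e v j = y ∧ ∀ i, i ≠ j → e v i = 0 := by
  obtain ⟨v1, hv1⟩ := C.surj1 j ![0, 1]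
  obtain ⟨v2, hv2⟩ := C.surj1 j ![1, 0]
  obtain ⟨x1, hx1, h1⟩ := C.full j (up (y 0))
  obtain ⟨x2, hx2, h2⟩ := C.full j (lo (y 1))
  refine ⟨d x1 v1 * d x2 v2, ?_, fun i hi => ?_⟩
  · rw [C.mul]
    show e (d x1 v1) j + e (d x2 v2) j = y
    rw [o.e_d C, o.e_d C, h1, h2, hv1, hv2]
    apply ext2
    · rw [Pi.add_apply, Pi.add_apply, Pi.add_apply, ap_zero', ap_zero']
      simp [CharTwo.add_self_eq_zero]
    · rw [Pi.add_apply, Pi.add_apply, Pi.add_apply, ap_one', ap_one']
      simp [CharTwo.add_self_eq_zero]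
  · rw [C.mul]
    show e (d x1 v1) i + e (d x2 v2) i = 0
    rw [o.e_d C, o.e_d C, o.triv C (Ne.symm hi) hx1, o.triv C (Ne.symm hi) hx2, o.add_self C, o.add_self C, add_zero]

theorem surj (y : Fin k → Fin 2 → F) : ∃ v, e v = y := by
  classical
  have key : ∀ s : Finset (Fin k), ∃ v, (∀ i ∈ s, e v i = y i) ∧ ∀ i ∉ s, e v i = 0 := by
    intro s
    induction s using Finset.induction_on with
    | empty => exact ⟨1, fun i hi => absurd hi (Finset.notMem_empty i), fun i _ => by rw [o.e_one C]; rfl⟩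
    | insert j s hj ih =>
      obtain ⟨v, h1, h2⟩ := ih
      obtain ⟨w, h3, h4⟩ := o.single C j (y j)
      refine ⟨w * v, fun i hi => ?_, fun i hi => ?_⟩
      · rw [C.mul]
        show e w i + e v i = y i
        rcases Finset.mem_insert.1 hi with rfl | hi
        · rw [h3, h2 i hj, add_zero]
        · have hne : i ≠ j := fun h5 => hj (h5 ▸ hi)
          rw [h4 i hne, h1 i hi, zero_add]
      · rw [Finset.mem_insert, not_or] at hi
        rw [C.mul]
        show e w i + e v i = 0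
        rw [h4 i hi.1, h2 i hi.2, add_zero]
  obtain ⟨v, h1, -⟩ := key Finset.univ
  exact ⟨v, funext fun i => h1 i (Finset.mem_univ i)⟩

variable [Finite X]

/-- the product of the blocks -/
theorem N_normal : (⨆ i, A i ⊔ B i : Subgroup X).Normal := by
  refine ⟨fun n hn g => ?_⟩
  have h1 : (⨆ i, A i ⊔ B i : Subgroup X) ≤ cj g⁻¹ (⨆ i, A i ⊔ B i) := by
    refine iSup_le fun i => ?_
    obtain ⟨j, hj⟩ := o.cjL g i
    rw [← cj_le_iff, hj]
    exact le_iSup (fun i => A i ⊔ B i) j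
  have h2 := mem_cj.1 (h1 hn)
  rwa [inv_inv] at h2

theorem ker (v : V) : e v = 0 ↔ v ∈ odd X V := by
  constructor
  · intro h1 x hx
    have h2 : x ∈ (⨆ i, A i ⊔ B i : Subgroup X) := by
      have hn := o.N_normal C
      have h3 : MinSimple.VModule.oddGen (⊤ : Subgroup X) ≤ ⨆ i, A i ⊔ B i := by
        refine MinSimple.VModule.oddGen_le_of_sup (S := T) ?_ ?_ le_top le_top o.two
        · rw [normalizer_eq_top]
        · rw [o.gen _ le_sup_right fun i => le_sup_of_le_left (le_iSup (fun i => A i ⊔ B i) i)]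
      exact h3 (MinSimple.VModule.mem_oddGen (mem_top x) hx)
    have h3 : (⨆ i, A i ⊔ B i : Subgroup X) ≤ MulAction.stabilizer X v := by
      refine iSup_le fun i => ?_
      intro y hy
      exact (C.ker i v).1 (by rw [h1]; rfl) y hy
    exact h3 h2
  · intro hv
    funext i
    rw [Pi.zero_apply, C.ker]
    obtain ⟨F', i1, i2, π, φ, h⟩ := o.nat i
    have hchar : CharP F' 2 := by
      have h1 := h.char2 o.sq (1 : F')
      exact CharTwo.of_one_ne_zero_of_two_eq_zero one_ne_zero (by rw [← one_add_one_eq_two]; exact h1)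
    exact fix_of_odd h (o.card4 i) hv

theorem fix_N {g : X} (hg : g ∈ (⨆ i, A i ⊔ B i : Subgroup X)) {v : V} (hv : v ∈ odd X V) : g • v = v := by
  have h3 : (⨆ i, A i ⊔ B i : Subgroup X) ≤ MulAction.stabilizer X v := by
    refine iSup_le fun i => ?_
    intro y hy
    exact (C.ker i v).1 (by rw [(o.ker C v).2 hv]; rfl) y hy
  exact h3 hg

/-- `e (g w)` depends only on `e w` -/
theorem e_congr (g : X) {w w' : V} (h : e w = e w') : e (g • w) = e (g • w') := by
  have h1 : e (w * w') = 0 := by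
    rw [C.mul, h]
    funext i
    exact o.add_self C _
  have h2 : g • (w * w') ∈ odd X V := by
    intro x hx
    have h3 : Odd (orderOf (g⁻¹ * x * g)) := by
      have h4 : orderOf (g⁻¹ * x * g) = orderOf x := by
        have := orderOf_injective (MulAut.conj g⁻¹).toMonoidHom (MulAut.conj g⁻¹).injective x
        simpa [MulAut.conj_apply] using this
      rwa [h4]
    have h4 := (o.ker C _).1 h1 _ h3
    have h5 : x • g • (w * w') = g • (g⁻¹ * x * g) • (w * w') := by
      rw [← mul_smul, ← mul_smul]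
      congr 1
      group
    rw [h5, h4]
  have h3 := (o.ker C _).2 h2
  rw [smul_mul', C.mul] at h3
  funext i
  have h4 := congrFun h3 i
  have h5 : e (g • w) i + e (g • w') i + e (g • w') i = e (g • w') i := by
    have h6 : e (g • w) i + e (g • w') i = 0 := h4
    rw [h6, zero_add]
  rwa [add_assoc, o.add_self C, add_zero] at h5

theorem lift (M : Fin k → Matrix.SpecialLinearGroup (Fin 2) F) :
    ∃ g ∈ (⨆ i, A i ⊔ B i : Subgroup X), AActs e g M := by
  choose x hx hx' using fun i => C.full i (M i)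
  obtain ⟨g, h1, h2⟩ := o.exists_prod C x hx M hx'
  have hg : g ∈ (⨆ i, A i ⊔ B i : Subgroup X) := h1 _ fun i => le_iSup (fun i => A i ⊔ B i) i (hx i)
  exact ⟨g, hg, h2, fun d hd => o.fix_N C hg hd⟩

theorem exists_act {g : X} (hg : g ∈ (⨆ i, A i ⊔ B i : Subgroup X)) :
    ∃ M : Fin k → Matrix.SpecialLinearGroup (Fin 2) F, ∀ v i, e (g • v) i = ap (M i) (e v i) := by
  classical
  let K : Subgroup X :=
    { carrier := {g | ∃ M : Fin k → Matrix.SpecialLinearGroup (Fin 2) F, ∀ v i, e (g • v) i = ap (M i) (e v i)}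
      one_mem' := ⟨1, fun v i => by rw [one_smul]; exact (ap_one _).symm⟩
      mul_mem' := by
        rintro a b ⟨M, hM⟩ ⟨M', hM'⟩
        exact ⟨M * M', fun v i => by rw [mul_smul, hM, hM', Pi.mul_apply, ap_mul]⟩
      inv_mem' := by
        rintro a ⟨M, hM⟩
        refine ⟨M⁻¹, fun v i => ?_⟩
        have h1 := hM (a⁻¹ • v) i
        rw [smul_inv_smul] at h1
        rw [h1, Pi.inv_apply, ← ap_mul, inv_mul_cancel, ap_one] }
  have h1 : (⨆ i, A i ⊔ B i : Subgroup X) ≤ K := by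
    refine iSup_le fun i x hx => ?_
    obtain ⟨M, hM⟩ := C.act i x hx
    refine ⟨Function.update 1 i M, fun v j => ?_⟩
    by_cases hij : j = i
    · subst hij
      rw [Function.update_self, hM]
    · rw [Function.update_of_ne hij, Pi.one_apply, ap_one, o.triv C (Ne.symm hij) hx]
  exact h1 hg

theorem acts_A {i : Fin k} {x : X} (hx : x ∈ A i) :
    ∃ b : F, ∀ v j, e (x • v) j = ap (up (Function.update (0 : Fin k → F) i b j)) (e v j) := by
  obtain ⟨b, hb⟩ := C.actA i x hx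
  refine ⟨b, fun v j => ?_⟩
  by_cases hij : j = i
  · subst hij
    rw [Function.update_self, hb]
  · rw [Function.update_of_ne hij, Pi.zero_apply, up_zero, ap_one, o.triv C (Ne.symm hij) (C.AL i hx)]

theorem A_le_N (i : Fin k) : A i ≤ (⨆ i, A i ⊔ B i : Subgroup X) := (C.AL i).trans (le_iSup (fun i => A i ⊔ B i) i)

/-- the conclusion -/
noncomputable def mkNat : AbsNat F T V k where
  e := e
  mul := C.mul
  surj := o.surj C
  ker := o.ker C
  lift M := by
    obtain ⟨g, -, hg⟩ := o.lift C M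
    exact ⟨g, hg⟩
  norm g h M hM := by
    obtain ⟨h', hh', hM', -⟩ := o.lift C M
    have hn := o.N_normal C
    obtain ⟨M'', hM''⟩ := o.exists_act C (hn.conj_mem h' hh' g)
    refine ⟨M'', fun v i => ?_⟩
    rw [← hM'']
    have h1 : e (h • g⁻¹ • v) = e (h' • g⁻¹ • v) := by
      funext j
      rw [hM, hM']
    have h2 := congrFun (o.e_congr C g h1) i
    simp only [← mul_smul, ← mul_assoc] at h2
    exact h2
  perm g := by
    choose j hj using o.cjL g
    have hinj : Function.Injective j := fun i i' h => by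
      apply o.L_inj
      have h1 : cj g (A i ⊔ B i) = cj g (A i' ⊔ B i') := by rw [hj, hj, h]
      exact cj_inj h1
    refine ⟨Equiv.ofBijective j (Finite.injective_iff_bijective.1 hinj), fun v i => ?_⟩
    show e (g • v) (j i) = 0 ↔ e v i = 0
    rw [C.ker, C.ker, ← hj, smul_fix_cj, inv_smul_smul]
  trans i j := by
    obtain ⟨t, ht, htA⟩ := o.trans i j
    refine ⟨t, ht, fun v => ?_⟩
    rw [C.ker, C.ker, ← o.eq_of_cj htA, smul_fix_cj, inv_smul_smul]
  line t ht := by
    choose j hj using o.cjA t ht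
    have hinj : Function.Injective j := fun i i' h => by
      apply o.A_inj
      have h1 : cj t (A i) = cj t (A i') := by rw [hj, hj, h]
      exact cj_inj h1
    refine ⟨Equiv.ofBijective j (Finite.injective_iff_bijective.1 hinj), fun v i => ?_⟩
    show e (t • v) (j i) 1 = 0 ↔ e v i 1 = 0
    rw [C.kerA, C.kerA, ← hj, smul_fix_cj, inv_smul_smul]
  unip b := by
    choose x hx _ hx' using fun i => C.fullA i (b i)
    obtain ⟨g, h1, h2⟩ := o.exists_prod C x (fun i => C.AL i (hx i)) (fun i => up (b i)) hx'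
    refine ⟨g, h1 T fun i => o.le i (hx i), h2, fun d hd => ?_⟩
    exact o.fix_N C (h1 _ fun i => o.A_le_N C i (hx i)) hd
  gen K hTK hK := by
    classical
    refine o.gen K hTK fun i x hx => ?_
    obtain ⟨M, hM⟩ := C.act i x hx
    refine hK x (Function.update 1 i M) ⟨fun v j => ?_, fun d hd => ?_⟩
    · by_cases hij : j = i
      · subst hij
        rw [Function.update_self, hM]
      · rw [Function.update_of_ne hij, Pi.one_apply, ap_one, o.triv C (Ne.symm hij) hx]
    · exact o.fix_N C (le_iSup (fun i => A i ⊔ B i) i hx) hd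
  off E hE ho := by
    classical
    obtain ⟨I, rfl⟩ := o.off E hE ho
    refine ⟨I, fun a ha => ?_, fun b hb => ?_⟩
    · let K : Subgroup X :=
        { carrier := {x | ∃ b : Fin k → F, (∀ i, i ∉ I → b i = 0) ∧ AActs e x fun i => up (b i)}
          one_mem' := ⟨0, fun i _ => rfl, fun v i => by
            show e ((1 : X) • v) i = ap (up (0 : F)) (e v i)
            rw [one_smul, up_zero, ap_one], fun d _ => one_smul _ d⟩
          mul_mem' := by
            rintro x y ⟨b, hb, hb1, hb2⟩ ⟨b', hb', hb1', hb2'⟩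
            refine ⟨b + b', fun i hi => by rw [Pi.add_apply, hb i hi, hb' i hi, add_zero], fun v i => ?_,
              fun d hd => by rw [mul_smul, hb2' d hd, hb2 d hd]⟩
            rw [mul_smul, hb1, hb1', ← ap_mul, up_mul]; rfl
          inv_mem' := by
            rintro x ⟨b, hb, hb1, hb2⟩
            refine ⟨-b, fun i hi => by rw [Pi.neg_apply, hb i hi, neg_zero], fun v i => ?_, fun d hd => ?_⟩
            · have h1 := hb1 (x⁻¹ • v) i
              rw [smul_inv_smul] at h1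
              rw [h1, ← ap_mul, up_mul, Pi.neg_apply, neg_add_cancel, up_zero, ap_one]
            · have h1 := hb2 d hd
              exact inv_smul_eq_iff.2 h1.symm }
      have h1 : (⨆ i ∈ I, A i) ≤ K := by
        refine iSup₂_le fun i hi x hx => ?_
        obtain ⟨b, hb⟩ := o.acts_A C hx
        refine ⟨Function.update (0 : Fin k → F) i b, fun j hj => ?_, hb, fun d hd => o.fix_N C (o.A_le_N C i hx) hd⟩
        rw [Function.update_of_ne (fun h2 => hj (by rw [h2]; exact hi)), Pi.zero_apply]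
      exact h1 ha
    · choose x hx h0 hx' using fun i => C.fullA i (b i)
      obtain ⟨g, h1, h2⟩ := o.exists_prod C x (fun i => C.AL i (hx i)) (fun i => up (b i)) hx'
      refine ⟨g, h1 _ fun i => ?_, h2, fun d hd => o.fix_N C (h1 _ fun i => o.A_le_N C i (hx i)) hd⟩
      by_cases hi : i ∈ I
      · exact (le_iSup₂ (f := fun i (_ : i ∈ I) => A i) i hi) (hx i)
      · rw [h0 i (hb i hi)]
        exact one_mem _

end coo

/-- **the global theorem (`q ≥ 4`) in the form `AbsNat`** -/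
theorem absNat [Finite X] (hk : 0 < k) : ∃ (F : Type) (_ : Field F) (_ : Finite F) (_ : CharP F 2),
    Nonempty (AbsNat F T V k) := by
  obtain ⟨F, i1, i2, i3, e, C⟩ := o.exists_coo hk
  exact ⟨F, i1, i2, i3, ⟨o.mkNat C⟩⟩

end Out

end Cfsg.Agent.Omega.FFBr
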