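import Cfsg.Agent.Mrg.Omega.MutE.Perm
import Cfsg.Agent.Mrg.Omega.VP

section


/-!
# The FF theorem for minimal parabolics, `q = 2`: offenders

`X` acts on the elementary abelian 2-group `V` (multiplicative), `ι : V → V'` is an equivariant isomorphism with an
additive module, `SymMod X V' T k m w`.

* `card_le` : no over-offender in `T`, `noOver` : `ANoOver X V`;
* `OffData` : what an offender `A ≤ T` does on the points: it fixes the summands, and with `a` it contains the
  transpositions of the orbits of `a`; `offData`.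
-/

set_option autoImplicit false

namespace Cfsg.Agent.Omega.FFBr.Two

open Subgroup Cfsg.Agent.Omega.Transv
open Cfsg.Agent.ClassTwoFusion.Quad (cv mem_cv)

variable {X : Type*} [Group X] {V : Type*} [Group V] [MulDistribMulAction X V]
  {V' : Type*} [AddCommGroup V'] [Module (ZMod 2) V'] [DistribMulAction X V']
  {T : Sylow 2 X} {k m : ℕ} {w : Fin k → Fin (2 ^ m + 1) → V'}

/-- equivariant isomorphism with an additive module -/
structure Tr (X : Type*) [Group X] {V : Type*} [Group V] [MulDistribMulAction X V]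
    {V' : Type*} [AddCommGroup V'] [DistribMulAction X V'] (ι : V → V') : Prop where
  inj : Function.Injective ι
  surj : Function.Surjective ι
  mul : ∀ v w, ι (v * w) = ι v + ι w
  act : ∀ (x : X) v, ι (x • v) = x • ι v

variable {ι : V → V'}

omit [Module (ZMod 2) V'] in
theorem Tr.one (i : Tr X ι) : ι 1 = 0 := by
  have h1 := i.mul 1 1
  rw [mul_one] at h1
  exact left_eq_add.1 h1

/-- the vectors of the span of the points -/
def spV (i : Tr X ι) (w : Fin k → Fin (2 ^ m + 1) → V') : Subgroup V where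
  carrier := {v | ι v ∈ spn w}
  one_mem' := by
    change ι 1 ∈ spn w
    rw [i.one]
    exact Submodule.zero_mem _
  mul_mem' := fun {v u} hv hu => by
    change ι (v * u) ∈ spn w
    rw [i.mul]
    exact Submodule.add_mem _ hv hu
  inv_mem' := fun {v} hv => by
    have h1 := i.mul v⁻¹ v
    rw [inv_mul_cancel, i.one] at h1
    change ι v⁻¹ ∈ spn w
    rw [eq_neg_of_add_eq_zero_left h1.symm]
    exact Submodule.neg_mem _ hv

theorem mem_spV (i : Tr X ι) {v : V} : v ∈ spV i w ↔ ι v ∈ spn w := Iff.rfl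

variable (h : SymMod X V' T k m w) (i : Tr X ι)

theorem card_spV : Nat.card (spV i w) = Nat.card (spn w) := by
  refine Nat.card_congr (Equiv.ofBijective (fun v => ⟨ι v, v.2⟩) ⟨fun v u hvu => ?_, fun v => ?_⟩)
  · exact Subtype.ext (i.inj (congrArg Subtype.val hvu))
  · obtain ⟨u, hu⟩ := i.surj v
    exact ⟨⟨u, by rw [mem_spV, hu]; exact v.2⟩, Subtype.ext hu⟩

theorem card_cv_spV (A : Subgroup X) :
    Nat.card (cv V (A : Set X) ⊓ spV i w : Subgroup V) =
      Nat.card {v : spn w // ∀ a : A, (a : X) • (v : V') = v} := by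
  refine Nat.card_congr (Equiv.ofBijective (fun v => ⟨⟨ι v, v.2.2⟩, fun a => ?_⟩) ⟨fun v u hvu => ?_, fun v => ?_⟩)
  · change (a : X) • ι v = ι v
    rw [← i.act, v.2.1 a a.2]
  · exact Subtype.ext (i.inj (congrArg (fun z => ((z : {v : spn w // ∀ a : A, (a : X) • (v : V') = v}).1 : V')) hvu))
  · obtain ⟨u, hu⟩ := i.surj v.1
    refine ⟨⟨u, fun a ha => i.inj ?_, show ι u ∈ spn w by rw [hu]; exact v.1.2⟩, Subtype.ext (Subtype.ext hu)⟩
    rw [i.act, hu]
    exact v.2 ⟨a, ha⟩

section T

variable [Finite X] {A : Subgroup X} (hAT : A ≤ T) (hc : ∀ a ∈ A, ∀ b ∈ A, a * b = b * a)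

omit [Finite X] in
theorem relIndex_mul (B W : Subgroup V) : B.relIndex W * Nat.card (B ⊓ W : Subgroup V) = Nat.card W := by
  have h1 := Subgroup.card_mul_index (B.subgroupOf W)
  rw [mul_comm] at h1
  have h2 : Nat.card (B.subgroupOf W) = Nat.card (B ⊓ W : Subgroup V) := by
    rw [← inf_subgroupOf_right]
    exact Nat.card_congr (subgroupOfEquivOfLe inf_le_right).toEquiv
  rw [h2] at h1
  exact h1

include h i hAT hc in
theorem card_le [Finite V] : Nat.card A ≤ (cv V (A : Set X)).relIndex (spV i w) := by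
  let _ : CommGroup A := { (inferInstance : Group A) with mul_comm := fun a b => Subtype.ext (hc a a.2 b b.2) }
  have h1 := card_le_span h A.subtype A.subtype_injective (fun a => hAT a.2)
  have h2 : Nat.card {v : spn w // ∀ a : A, A.subtype a • (v : V') = v} =
      Nat.card (cv V (A : Set X) ⊓ spV i w : Subgroup V) := (card_cv_spV i A).symm
  rw [h2, ← card_spV i, ← relIndex_mul (cv V (A : Set X)) (spV i w)] at h1
  exact Nat.le_of_mul_le_mul_right h1 Nat.card_pos

include h i hAT hc in
theorem card_le_index [Finite V] : Nat.card A ≤ (cv V (A : Set X)).index := by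
  refine (card_le h i hAT hc).trans ?_
  rw [← Subgroup.relIndex_top_right]
  exact Subgroup.relIndex_le_of_le_right le_top Subgroup.index_ne_zero_of_finite

include h i in
/-- no over-offender -/
theorem noOver [Finite V] : ANoOver X V := by
  intro A hc hs
  have : Fact (Nat.Prime 2) := ⟨Nat.prime_two⟩
  have h2 : IsPGroup 2 A := fun a => ⟨1, by
    rw [pow_one, pow_two]
    exact Subtype.ext (hs a a.2)⟩
  obtain ⟨Q, hQ⟩ := h2.exists_le_sylow
  obtain ⟨g, hg⟩ := MulAction.exists_smul_eq X Q T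
  let B : Subgroup X := A.map (MulAut.conj g).toMonoidHom
  have hBT : B ≤ T := by
    rintro _ ⟨a, ha, rfl⟩
    rw [← hg]
    exact ⟨a, hQ ha, rfl⟩
  have hBc : ∀ a ∈ B, ∀ b ∈ B, a * b = b * a := by
    rintro _ ⟨a, ha, rfl⟩ _ ⟨b, hb, rfl⟩
    rw [← map_mul, ← map_mul, hc a ha b hb]
  have h3 := card_le_index h i hBT hBc
  have h4 : Nat.card B = Nat.card A := Subgroup.card_map_of_injective (MulAut.conj g).injective
  have h5 : cv V (B : Set X) = (cv V (A : Set X)).map (MulDistribMulAction.toMulEquiv V g).toMonoidHom := by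
    ext v
    constructor
    · intro hv
      refine ⟨g⁻¹ • v, fun a ha => ?_, smul_inv_smul g v⟩
      have h6 := hv _ ⟨a, ha, rfl⟩
      change (g * a * g⁻¹) • v = v at h6
      rw [mul_smul, mul_smul, ← eq_inv_smul_iff] at h6
      exact h6
    · rintro ⟨u, hu, rfl⟩
      rintro _ ⟨a, ha, rfl⟩
      change (g * a * g⁻¹) • g • u = g • u
      rw [mul_smul, mul_smul, inv_smul_smul, hu a ha]
  have h6 : (cv V (B : Set X)).index = (cv V (A : Set X)).index := by
    rw [h5]
    exact Subgroup.index_map_of_bijective (MulDistribMulAction.toMulEquiv V g).bijective _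
  rw [← h4, ← h6]
  exact h3

/-- what an offender does on the points -/
structure OffData (w : Fin k → Fin (2 ^ m + 1) → V') (A : Subgroup X) (a : X)
    (τ : Fin k → Equiv.Perm (Fin (2 ^ m + 1))) : Prop where
  acts : Acts w a 1 τ
  zero : ∀ j, τ j 0 = 0
  sq : ∀ j x, τ j (τ j x) = x
  swap : ∀ j x, τ j x ≠ x → ∃ b ∈ A, Acts w b 1 (Function.update 1 j (Equiv.swap x (τ j x)))

include h i hAT hc in
theorem offData [Finite V] (hs : ∀ a ∈ A, a * a = 1) (hoff : (cv V (A : Set X)).index ≤ Nat.card A) (a : X)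
    (ha : a ∈ A) : ∃ τ, OffData w A a τ := by
  classical
  let _ : CommGroup A := { (inferInstance : Group A) with mul_comm := fun a b => Subtype.ext (hc a a.2 b b.2) }
  have h1 : Nat.card (spn w) ≤ Nat.card A * Nat.card {v : spn w // ∀ a : A, A.subtype a • (v : V') = v} := by
    have h2 : Nat.card {v : spn w // ∀ a : A, A.subtype a • (v : V') = v} =
        Nat.card (cv V (A : Set X) ⊓ spV i w : Subgroup V) := (card_cv_spV i A).symm
    rw [h2, ← card_spV i, ← relIndex_mul (cv V (A : Set X)) (spV i w)]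
    refine Nat.mul_le_mul_right _ (le_trans ?_ hoff)
    rw [← Subgroup.relIndex_top_right]
    exact Subgroup.relIndex_le_of_le_right le_top Subgroup.index_ne_zero_of_finite
  have hsw := exists_swap_span h A.subtype A.subtype_injective (fun a => hAT a.2) h1
  -- the transpositions
  have key : ∀ a ∈ A, ∀ p : Fin k × Fin (2 ^ m), a • w p.1 p.2.succ ≠ w p.1 p.2.succ →
      ∃ y : Fin (2 ^ m), a • w p.1 p.2.succ = w p.1 y.succ ∧
        ∃ b ∈ A, Acts w b 1 (Function.update 1 p.1 (Equiv.swap p.2.succ y.succ)) := by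
    rintro a ha ⟨j, x⟩ hne
    obtain ⟨⟨b, hb⟩, h2, h3, h4⟩ := hsw ⟨a, ha⟩ (j, x) hne
    change b • w j x.succ = a • w j x.succ at h2
    change b • a • w j x.succ = w j x.succ at h3
    obtain ⟨⟨l, y⟩, hq⟩ := exists_q h (hAT ha) (j, x)
    change a • w j x.succ = w l y.succ at hq
    change a • w j x.succ ≠ w j x.succ at hne
    rw [hq] at h2 h3 hne
    have h4' : ∀ (l' : Fin k) (y' : Fin (2 ^ m)), (l', y') ≠ (j, x) → (l', y') ≠ (l, y) →
        b • w l' y'.succ = w l' y'.succ := by
      intro l' y' h5 h6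
      refine h4 (l', y') (fun h0 => h5 (wq_inj h h0)) fun h0 => h6 ?_
      change w l' y'.succ = a • w j x.succ at h0
      rw [hq] at h0
      exact wq_inj h (p := (l', y')) (q := (l, y)) h0
    obtain ⟨σ, τ, hbτ⟩ := h.perm b
    have hb0 := fix_zero h (hAT hb) hbτ
    -- the summand is fixed
    have hlj : l = j := by
      by_contra hlj
      obtain ⟨z, hz1, hz2⟩ := exists_third h.m_pos (0 : Fin (2 ^ m + 1)) x.succ
      obtain ⟨z', rfl⟩ := Fin.exists_succ_eq.2 hz1
      have h5 := h4' j z' (fun h0 => hz2 (by rw [(Prod.mk.inj h0).2])) (fun h0 => hlj (Prod.mk.inj h0).1.symm)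
      rw [hbτ j z'.succ] at h5
      have h6 := (w_inj h h5).1
      rw [hbτ j x.succ] at h2
      have h7 := (w_inj h h2).1
      exact hlj (h7.symm.trans h6)
    subst hlj
    have hxy : x ≠ y := fun h0 => hne (by rw [h0])
    refine ⟨y, hq, b, hb, ?_⟩
    have h5 : ∀ j' x', b • w j' x' = w j' ((Function.update (1 : Fin k → Equiv.Perm (Fin (2 ^ m + 1))) l
        (Equiv.swap x.succ y.succ)) j' x') := by
      intro j' x'
      rcases Fin.eq_zero_or_eq_succ x' with rfl | ⟨z, rfl⟩
      · have h8 : σ j' = j' := by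
          by_cases hj : j' = l
          · subst hj
            rw [hbτ j' x.succ] at h2
            exact (w_inj h h2).1
          · have h9 := h4' j' x (fun h0 => hj (Prod.mk.inj h0).1) (fun h0 => hj (Prod.mk.inj h0).1)
            rw [hbτ j' x.succ] at h9
            exact (w_inj h h9).1
        rw [hbτ j' 0, hb0, h8]
        by_cases hj : j' = l
        · subst hj
          rw [Function.update_self, Equiv.swap_apply_of_ne_of_ne (Fin.succ_ne_zero x).symm (Fin.succ_ne_zero y).symm]
        · rw [Function.update_of_ne hj]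
          rfl
      · by_cases hj : j' = l
        · subst hj
          rw [Function.update_self]
          by_cases hzx : z = x
          · subst hzx
            rw [Equiv.swap_apply_left]
            exact h2
          · by_cases hzy : z = y
            · subst hzy
              rw [Equiv.swap_apply_right]
              exact h3
            · rw [Equiv.swap_apply_of_ne_of_ne (fun h0 => hzx (Fin.succ_injective _ h0))
                (fun h0 => hzy (Fin.succ_injective _ h0))]
              exact h4' j' z (fun h0 => hzx (Prod.mk.inj h0).2) (fun h0 => hzy (Prod.mk.inj h0).2)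
        · rw [Function.update_of_ne hj]
          exact h4' j' z (fun h0 => hj (Prod.mk.inj h0).1) (fun h0 => hj (Prod.mk.inj h0).1)
    exact h5
  obtain ⟨σ, τ, haτ⟩ := h.perm a
  have ha0 := fix_zero h (hAT ha) haτ
  have hσ : σ = 1 := by
    ext j
    change ((σ j : Fin k) : ℕ) = j
    congr 1
    obtain ⟨z, hz1, -⟩ := exists_third h.m_pos (0 : Fin (2 ^ m + 1)) 0
    obtain ⟨z', rfl⟩ := Fin.exists_succ_eq.2 hz1
    by_cases hne : a • w j z'.succ = w j z'.succ
    · rw [haτ] at hne
      exact (w_inj h hne).1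
    · obtain ⟨y, hy, -⟩ := key a ha (j, z') hne
      rw [haτ] at hy
      exact (w_inj h hy).1
  subst hσ
  refine ⟨τ, haτ, ha0, fun j x => ?_, fun j x hx => ?_⟩
  · have h2 : (a * a) • w j x = w j x := by rw [hs a ha, one_smul]
    rw [mul_smul, haτ, haτ] at h2
    exact (w_inj h h2).2
  · have hx0 : x ≠ 0 := fun h0 => hx (by rw [h0]; exact ha0 j)
    obtain ⟨x', rfl⟩ := Fin.exists_succ_eq.2 hx0
    have hne : a • w j x'.succ ≠ w j x'.succ := by
      intro h0
      rw [haτ] at h0
      exact hx (w_inj h h0).2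
    obtain ⟨y, hy, b, hb, h3⟩ := key a ha (j, x') hne
    change a • w j x'.succ = w j y.succ at hy
    rw [haτ] at hy
    have h4 := (w_inj h hy).2
    exact ⟨b, hb, by rw [h4]; exact h3⟩

end T

end Cfsg.Agent.Omega.FFBr.Two

end

section


/-!
# The FF theorem for minimal parabolics, `q = 2`: the structure `AbsSym`

`absSym` : `SymMod X V' T k m w` gives `AbsSym T V k m`.
-/

set_option autoImplicit false

namespace Cfsg.Agent.Omega.FFBr.Two

open Subgroup Cfsg.Agent.Omega.Transv
open Cfsg.Agent.ClassTwoFusion.Quad (cv mem_cv)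

variable {X : Type*} [Group X] {V : Type*} [Group V] [MulDistribMulAction X V]
  {V' : Type*} [AddCommGroup V'] [Module (ZMod 2) V'] [DistribMulAction X V']
  {T : Sylow 2 X} {k m : ℕ} {w : Fin k → Fin (2 ^ m + 1) → V'} {ι : V → V'}

section

variable [Finite X] (h : SymMod X V' T k m w) (i : Tr X ι)

include h i in
theorem mem_odd_iff {v : V} : v ∈ odd X V ↔ ι v ∈ fixS V' (closure (DD X V')) := by
  rw [mem_odd, odd_iff h]
  refine forall_congr' fun x => forall_congr' fun _ => ?_
  rw [← i.act]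
  exact ⟨fun h0 => by rw [h0], fun h0 => i.inj h0⟩

include h i in
theorem fix_odd {g : X} (hg : g ∈ closure (DD X V')) {v : V} (hv : v ∈ odd X V) : g • v = v := by
  apply i.inj
  rw [i.act]
  exact fix_D hg ((mem_odd_iff h i).1 hv)

omit [Finite X] in
include h in
/-- elements which act as permutations of the points of the summands are products of transvections -/
theorem mem_closure_of_acts {g : X} {τ : Fin k → Equiv.Perm (Fin (2 ^ m + 1))} (hg : Acts w g 1 τ) :
    g ∈ closure (DD X V') := by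
  obtain ⟨g', h1, h2⟩ := exists_lift h τ
  rw [Acts.eq h hg h2]
  exact h1

omit [Finite X] in
include h in
theorem acts_iff {g : X} {σ : Equiv.Perm (Fin k)} {τ : Fin k → Equiv.Perm (Fin (2 ^ m + 1))} (i : Tr X ι) :
    AActsSym (fun v => crd h (ι v)) g σ τ ↔ Acts w g σ τ := by
  constructor
  · intro h1
    refine Acts.of_crd h fun v' j x => ?_
    obtain ⟨v, rfl⟩ := i.surj v'
    rw [← i.act]
    exact h1 v j x
  · intro h1 v j x
    change crd h (ι (g • v)) (σ j) (τ j x) = crd h (ι v) j x
    rw [i.act]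
    exact crd_smul h h1 _ _ _

/-- the structure for `S_{2^m+1}` -/
noncomputable def absSym [Finite V] : AbsSym (T : Subgroup X) V k m where
  e v := crd h (ι v)
  mul v u := by rw [i.mul, map_add]
  even v j := crd_even h _ j
  surj y hy := by
    obtain ⟨v', hv⟩ := crd_surj h y hy
    obtain ⟨v, rfl⟩ := i.surj v'
    exact ⟨v, hv⟩
  ker v := by rw [mem_odd_iff h i, crd_eq_zero_iff h]
  lift τ := by
    obtain ⟨g, hg, h1⟩ := exists_lift h τ
    exact ⟨g, (acts_iff h i).2 h1, fun d hd => fix_odd h i hg hd⟩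
  perm g := by
    obtain ⟨σ, τ, h1⟩ := h.perm g
    exact ⟨σ, τ, (acts_iff h i).2 h1⟩
  trans j l := by
    obtain ⟨t, ht, h1⟩ := h.trans j l
    obtain ⟨σ, τ, h2⟩ := h.perm t
    refine ⟨t, ht, σ, τ, (acts_iff h i).2 h2, ?_⟩
    rw [h2 j 0] at h1
    exact (w_inj h h1).1
  fix0 t ht σ τ h1 j := fix_zero h ht ((acts_iff h i).1 h1) j
  gen K hTK hK := by
    rw [eq_top_iff, ← h.gen]
    refine sup_le ?_ hTK
    rw [closure_le]
    rintro d ⟨a, χ, hd⟩
    obtain ⟨j, x, y, hxy, ha, h1⟩ := h.all d a χ hd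
    have h2 : Acts w d 1 (Function.update 1 j (Equiv.swap x y)) := by
      intro l z
      rw [(h1 l z).1]
      congr 1
      by_cases hl : l = j
      · subst hl
        simp
      · simp [hl]
    exact hK d _ ((acts_iff h i).2 h2) fun v hv => fix_odd h i (subset_closure hd.mem) hv
  off A hAT hA := by
    refine ⟨fun a ha d hd => ?_, fun a ha => ?_⟩
    · obtain ⟨τ, h1⟩ := offData h i hAT hA.comm hA.sq hA.le a ha
      exact fix_odd h i (mem_closure_of_acts h h1.acts) hd
    · obtain ⟨τ, h1⟩ := offData h i hAT hA.comm hA.sq hA.le a ha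
      refine ⟨τ, (acts_iff h i).2 h1.acts, fun j x hx => ⟨h1.sq j x, ?_⟩⟩
      obtain ⟨b, hb, h2⟩ := h1.swap j x hx
      exact ⟨b, hb, (acts_iff h i).2 h2⟩

end

end Cfsg.Agent.Omega.FFBr.Two

end

section


/-!
# The FF theorem for minimal parabolics, `q = 2`: the summands of dimension 2

`absNat` : `SymMod X V' T k 1 w` gives `AbsNat (ZMod 2) T V k`.
-/

set_option autoImplicit false

namespace Cfsg.Agent.Omega.FFBr.Two

open Subgroup Cfsg.Agent.Omega.Transv Cfsg.Agent.Lib.SL2Mat
open Cfsg.Agent.ClassTwoFusion.Quad (cv mem_cv)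
open Cfsg.Agent.Omega.NatPair (ap ap_zero' ap_one' ext2)

/-! ### The three nonzero vectors of `F₂²` -/

/-- the vectors -/
def pt (x : Fin (2 ^ 1 + 1)) : Fin 2 → ZMod 2 := ![1 + (if x = 1 then 1 else 0), 1 + (if x = 0 then 1 else 0)]

theorem pt_ne (x : Fin (2 ^ 1 + 1)) : pt x ≠ 0 := by revert x; decide

theorem pt_inj {x y : Fin (2 ^ 1 + 1)} (h : pt x = pt y) : x = y := by revert x y; decide

theorem exists_pt (u : Fin 2 → ZMod 2) (h : u ≠ 0) : ∃ x, pt x = u := by revert u; decide

theorem ap_ne {A : Matrix.SpecialLinearGroup (Fin 2) (ZMod 2)} {u : Fin 2 → ZMod 2} (h : u ≠ 0) : ap A u ≠ 0 := by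
  intro h0
  apply h
  have h1 := Cfsg.Agent.Omega.NatPair.ap_inv_ap A u
  rw [h0] at h1
  rw [← h1]
  apply ext2
  · rw [ap_zero']; simp
  · rw [ap_one']; simp

theorem ap_injective {A : Matrix.SpecialLinearGroup (Fin 2) (ZMod 2)} {u v : Fin 2 → ZMod 2} (h : ap A u = ap A v) :
    u = v := by
  have h1 := Cfsg.Agent.Omega.NatPair.ap_inv_ap A u
  rw [h, Cfsg.Agent.Omega.NatPair.ap_inv_ap] at h1
  exact h1.symm

theorem exists_perm (A : Matrix.SpecialLinearGroup (Fin 2) (ZMod 2)) :
    ∃ τ : Equiv.Perm (Fin (2 ^ 1 + 1)), ∀ x, ap A (pt x) = pt (τ x) := by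
  choose f hf using fun x => exists_pt (ap A (pt x)) (ap_ne (pt_ne x))
  have hinj : Function.Injective f := by
    intro x y hxy
    have h1 := hf x
    rw [hxy, hf y] at h1
    exact (pt_inj (ap_injective h1)).symm
  exact ⟨Equiv.ofBijective f (Finite.injective_iff_bijective.1 hinj), fun x => (hf x).symm⟩

theorem exists_mat (τ : Equiv.Perm (Fin (2 ^ 1 + 1))) :
    ∃ A : Matrix.SpecialLinearGroup (Fin 2) (ZMod 2), ∀ x, ap A (pt x) = pt (τ x) := by
  have h1 : ∀ τ : Equiv.Perm (Fin (2 ^ 1 + 1)), pt (τ 0) 0 * pt (τ 1) 1 - pt (τ 1) 0 * pt (τ 0) 1 = 1 := by decide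
  have h2 : ∀ (τ : Equiv.Perm (Fin (2 ^ 1 + 1))) (x : Fin (2 ^ 1 + 1)),
      pt (τ 0) 0 * pt x 0 + pt (τ 1) 0 * pt x 1 = pt (τ x) 0 ∧
        pt (τ 0) 1 * pt x 0 + pt (τ 1) 1 * pt x 1 = pt (τ x) 1 := by decide
  refine ⟨mk (pt (τ 0) 0) (pt (τ 1) 0) (pt (τ 0) 1) (pt (τ 1) 1) (h1 τ), fun x => ?_⟩
  apply ext2
  · rw [ap_zero', mk_00, mk_01]
    exact (h2 τ x).1
  · rw [ap_one', mk_10, mk_11]
    exact (h2 τ x).2

theorem ap_up_zero_pt (x : Fin (2 ^ 1 + 1)) : ap (up (0 : ZMod 2)) (pt x) = pt x := by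
  apply ext2
  · rw [ap_zero', up_00, up_01, one_mul, zero_mul, add_zero]
  · rw [ap_one', up_10, up_11, one_mul, zero_mul, zero_add]

theorem ap_up_one_pt (x : Fin (2 ^ 1 + 1)) : ap (up (1 : ZMod 2)) (pt x) = pt (Equiv.swap 1 2 x) := by
  have h1 : ∀ x : Fin (2 ^ 1 + 1), pt x 0 + pt x 1 = pt (Equiv.swap 1 2 x) 0 ∧
    pt x 1 = pt (Equiv.swap 1 2 x) 1 := by decide
  apply ext2
  · rw [ap_zero', up_00, up_01, one_mul, one_mul]
    exact (h1 x).1
  · rw [ap_one', up_10, up_11, one_mul, zero_mul, zero_add]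
    exact (h1 x).2

/-- the permutation of `up b` -/
def pu (b : ZMod 2) : Equiv.Perm (Fin (2 ^ 1 + 1)) := if b = 0 then 1 else Equiv.swap 1 2

theorem ap_up_pt (b : ZMod 2) (x : Fin (2 ^ 1 + 1)) : ap (up b) (pt x) = pt (pu b x) := by
  rcases zmod_cases b with rfl | rfl
  · rw [ap_up_zero_pt]; rfl
  · rw [ap_up_one_pt, pu, if_neg one_ne]

theorem eq_pu (τ : Equiv.Perm (Fin (2 ^ 1 + 1))) (h0 : τ 0 = 0) : ∃ b : ZMod 2, τ = pu b := by
  revert τ
  decide

theorem pu_zero (b : ZMod 2) : pu b 0 = 0 := by revert b; decide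

theorem pu_sq (b : ZMod 2) : pu b * pu b = 1 := by revert b; decide

theorem pu_add (b c : ZMod 2) : pu b * pu c = pu (b + c) := by revert b c; decide

variable {X : Type*} [Group X] {V : Type*} [Group V] [MulDistribMulAction X V]
  {V' : Type*} [AddCommGroup V'] [Module (ZMod 2) V'] [DistribMulAction X V']
  {T : Sylow 2 X} {k : ℕ} {w : Fin k → Fin (2 ^ 1 + 1) → V'} {ι : V → V'}

/-- the coordinates in `F₂²` -/
noncomputable def ee (h : SymMod X V' T k 1 w) (v : V') (j : Fin k) : Fin 2 → ZMod 2 := ![crd h v j 1, crd h v j 0]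

theorem ee_zero' (h : SymMod X V' T k 1 w) (v : V') (j : Fin k) : ee h v j 0 = crd h v j 1 := rfl

theorem ee_one' (h : SymMod X V' T k 1 w) (v : V') (j : Fin k) : ee h v j 1 = crd h v j 0 := rfl

theorem ee_add (h : SymMod X V' T k 1 w) (v u : V') : ee h (v + u) = ee h v + ee h u := by
  funext j
  apply ext2
  · rw [ee_zero', map_add]; rfl
  · rw [ee_one', map_add]; rfl

theorem ee_w (h : SymMod X V' T k 1 w) (j l : Fin k) (y : Fin (2 ^ 1 + 1)) :
    ee h (w j y) l = if j = l then pt y else 0 := by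
  apply ext2
  · rw [ee_zero', crd_w]
    by_cases hjl : j = l
    · rw [if_pos hjl, if_pos hjl]; rfl
    · rw [if_neg hjl, if_neg hjl]; rfl
  · rw [ee_one', crd_w]
    by_cases hjl : j = l
    · rw [if_pos hjl, if_pos hjl]; rfl
    · rw [if_neg hjl, if_neg hjl]; rfl

theorem ee_eq_zero_iff (h : SymMod X V' T k 1 w) {v : V'} {j : Fin k} : ee h v j = 0 ↔ crd h v j = 0 := by
  constructor
  · intro h1
    have h2 : crd h v j 1 = 0 := by rw [← ee_zero', h1]; rfl
    have h3 : crd h v j 0 = 0 := by rw [← ee_one', h1]; rfl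
    have h4 := crd_even h v j
    have h5 : ∑ x : Fin (2 ^ 1 + 1), crd h v j x = crd h v j 0 + crd h v j 1 + crd h v j 2 :=
      Fin.sum_univ_three (crd h v j)
    rw [h5, h2, h3, zero_add, zero_add] at h4
    funext x
    have h6 : ∀ x : Fin (2 ^ 1 + 1), x = 0 ∨ x = 1 ∨ x = 2 := by decide
    rcases h6 x with rfl | rfl | rfl
    · exact h3
    · exact h2
    · exact h4
  · intro h1
    apply ext2
    · rw [ee_zero', h1]; rfl
    · rw [ee_one', h1]; rfl

theorem ap_add (A : Matrix.SpecialLinearGroup (Fin 2) (ZMod 2)) (x y : Fin 2 → ZMod 2) :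
    ap A (x + y) = ap A x + ap A y := by
  apply ext2
  · rw [Pi.add_apply, ap_zero', ap_zero', ap_zero', Pi.add_apply, Pi.add_apply]; ring
  · rw [Pi.add_apply, ap_one', ap_one', ap_one', Pi.add_apply, Pi.add_apply]; ring

/-- the action on the coordinates from the action on the points -/
theorem ee_smul (h : SymMod X V' T k 1 w) {g : X} {τ : Fin k → Equiv.Perm (Fin (2 ^ 1 + 1))} (hg : Acts w g 1 τ)
    {A : Fin k → Matrix.SpecialLinearGroup (Fin 2) (ZMod 2)} (hA : ∀ j x, ap (A j) (pt x) = pt (τ j x)) (v : V')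
    (j : Fin k) : ee h (g • v) j = ap (A j) (ee h v j) := by
  let f : V' →ₗ[ZMod 2] (Fin 2 → ZMod 2) :=
    { toFun := fun v => ee h (g • v) j
      map_add' := fun v u => by rw [smul_add, ee_add]; rfl
      map_smul' := fun c v => by
        rcases zmod_cases c with rfl | rfl
        · rw [zero_smul, smul_zero, RingHom.id_apply, zero_smul]
          have h1 := ee_add h (0 : V') 0
          rw [add_zero] at h1
          exact congrFun (left_eq_add.1 h1) j
        · rw [one_smul, RingHom.id_apply, one_smul] }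
  let f' : V' →ₗ[ZMod 2] (Fin 2 → ZMod 2) :=
    { toFun := fun v => ap (A j) (ee h v j)
      map_add' := fun v u => by
        have h1 : ee h (v + u) j = ee h v j + ee h u j := by rw [ee_add]; rfl
        rw [h1, ap_add]
      map_smul' := fun c v => by
        rcases zmod_cases c with rfl | rfl
        · rw [zero_smul, RingHom.id_apply, zero_smul]
          have h1 : ee h (0 : V') j = 0 := (ee_eq_zero_iff h).2 (by rw [map_zero]; rfl)
          rw [h1]
          have h2 := ap_add (A j) 0 0
          rw [add_zero] at h2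
          exact left_eq_add.1 h2
        · rw [one_smul, RingHom.id_apply, one_smul] }
  have h1 : f = f' := by
    refine ext_of h (fun l y => ?_) fun v hv => ?_
    · change ee h (g • w l y) j = ap (A j) (ee h (w l y) j)
      rw [hg l y, ee_w, ee_w]
      by_cases hlj : l = j
      · subst hlj
        rw [if_pos rfl, Equiv.Perm.coe_one, id_eq, if_pos rfl, hA]
      · rw [if_neg hlj, Equiv.Perm.coe_one, id_eq, if_neg hlj]
        have h2 := ap_add (A j) 0 0
        rw [add_zero] at h2
        exact (left_eq_add.1 h2).symm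
    · change ee h (g • v) j = ap (A j) (ee h v j)
      have h2 : ee h (g • v) j = 0 :=
        (ee_eq_zero_iff h).2 (by rw [(crd_eq_zero_iff h).2 (smul_mem_D hv g)]; rfl)
      have h3 : ee h v j = 0 := (ee_eq_zero_iff h).2 (by rw [(crd_eq_zero_iff h).2 hv]; rfl)
      rw [h2, h3]
      have h2 := ap_add (A j) 0 0
      rw [add_zero] at h2
      exact (left_eq_add.1 h2).symm
  exact LinearMap.congr_fun h1 v

/-- the action on the points from the action on the coordinates -/
theorem acts_of_ee (h : SymMod X V' T k 1 w) {g : X}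
    {A : Fin k → Matrix.SpecialLinearGroup (Fin 2) (ZMod 2)} (hA : ∀ v j, ee h (g • v) j = ap (A j) (ee h v j)) :
    ∃ τ : Fin k → Equiv.Perm (Fin (2 ^ 1 + 1)), Acts w g 1 τ ∧ ∀ j x, ap (A j) (pt x) = pt (τ j x) := by
  choose τ hτ using fun j => exists_perm (A j)
  obtain ⟨σ', τ', hg⟩ := h.perm g
  refine ⟨τ, fun j x => ?_, hτ⟩
  have h1 := hA (w j x) j
  rw [hg j x, ee_w, ee_w, if_pos rfl, hτ] at h1
  have h2 : σ' j = j := by
    by_contra hne
    rw [if_neg hne] at h1
    exact pt_ne _ h1.symm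
  rw [if_pos h2] at h1
  rw [hg j x, h2, pt_inj h1]
  rfl

section

variable [Finite X] (h : SymMod X V' T k 1 w) (i : Tr X ι)

include h in
/-- the elements which fix the points `0` and the summands lie in `T` -/
theorem mem_T_of {g : X} {b : Fin k → ZMod 2} (hg : Acts w g 1 fun j => pu (b j)) : g ∈ T := by
  let E : Subgroup X :=
    { carrier := {g | ∃ b : Fin k → ZMod 2, Acts w g 1 fun j => pu (b j)}
      one_mem' := ⟨0, Acts.one⟩
      mul_mem' := by
        rintro g g' ⟨b, hb⟩ ⟨b', hb'⟩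
        refine ⟨b + b', ?_⟩
        have h1 := hb.mul hb'
        intro j x
        rw [h1 j x]
        change w j ((pu (b j) * pu (b' j)) x) = w j (pu (b j + b' j) x)
        rw [pu_add]
      inv_mem' := by
        rintro g ⟨b, hb⟩
        refine ⟨b, ?_⟩
        have h1 := hb.mul hb
        have h2 : g * g = 1 := by
          refine Acts.eq h (σ := 1) (τ := 1) ?_ Acts.one
          intro j x
          rw [h1 j x]
          change w j ((pu (b j) * pu (b j)) x) = w j x
          rw [pu_sq]
          rfl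
        rw [inv_eq_of_mul_eq_one_left h2]
        exact hb }
  have hE : IsPGroup 2 E := by
    rintro ⟨g, b, hb⟩
    refine ⟨1, ?_⟩
    rw [pow_one, pow_two]
    apply Subtype.ext
    refine Acts.eq h (σ := 1) (τ := 1) ?_ Acts.one
    have h1 := hb.mul hb
    intro j x
    change (g * g) • w j x = w j x
    rw [h1 j x]
    change w j ((pu (b j) * pu (b j)) x) = w j x
    rw [pu_sq]
    rfl
  have hn : (T : Subgroup X) ≤ normalizer (E : Set X) := by
    have key : ∀ t ∈ T, ∀ g ∈ E, t * g * t⁻¹ ∈ E := by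
      rintro t ht g ⟨b, hb⟩
      obtain ⟨σ, τ, h1'⟩ := h.perm t
      have h1 : Acts w t σ τ := h1'
      have h2 := (h1.mul hb).mul h1.inv
      have h3 : σ * 1 * σ⁻¹ = 1 := by group
      rw [h3] at h2
      have h4 : ∀ j, ∃ c, (τ ((1 : Equiv.Perm (Fin k)) (σ⁻¹ j)) * pu (b (σ⁻¹ j))) * (τ (σ⁻¹ j))⁻¹ = pu c := by
        intro j
        apply eq_pu
        have h5 : (τ (σ⁻¹ j))⁻¹ 0 = 0 := by
          rw [Equiv.Perm.inv_eq_iff_eq, fix_zero h ht h1]
        rw [Equiv.Perm.mul_apply, h5, Equiv.Perm.mul_apply, pu_zero, Equiv.Perm.coe_one, id_eq, fix_zero h ht h1]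
      choose c hc using h4
      refine ⟨c, fun j x => ?_⟩
      rw [h2 j x]
      exact congrArg (fun s : Equiv.Perm (Fin (2 ^ 1 + 1)) => w j (s x)) (hc j)
    intro t ht
    rw [mem_normalizer_iff]
    intro g
    refine ⟨fun hg => key t ht g hg, fun hg => ?_⟩
    have h1 := key t⁻¹ (inv_mem ht) _ hg
    have h2 : t⁻¹ * (t * g * t⁻¹) * t⁻¹⁻¹ = g := by group
    rwa [h2] at h1
  have : Fact (Nat.Prime 2) := ⟨Nat.prime_two⟩
  have h1 : IsPGroup 2 ((T : Subgroup X) ⊔ E : Subgroup X) := IsPGroup.to_sup_of_normal_right' T.isPGroup' hE hn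
  have h2 := T.is_maximal' h1 le_sup_left
  exact (le_sup_right.trans h2.le) (show g ∈ E from ⟨b, hg⟩)

include h i in
theorem aacts {g : X} (hg : g ∈ closure (DD X V')) {τ : Fin k → Equiv.Perm (Fin (2 ^ 1 + 1))} (hτ : Acts w g 1 τ)
    {A : Fin k → Matrix.SpecialLinearGroup (Fin 2) (ZMod 2)} (hA : ∀ j x, ap (A j) (pt x) = pt (τ j x)) :
    AActs (fun v => ee h (ι v)) g A := by
  refine ⟨fun v j => ?_, fun d hd => fix_odd h i hg hd⟩
  change ee h (ι (g • v)) j = _
  rw [i.act]
  exact ee_smul h hτ hA _ _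

/-- the structure for `S₃ = SL₂(2)` -/
noncomputable def absNat [Finite V] : AbsNat (ZMod 2) (T : Subgroup X) V k where
  e v := ee h (ι v)
  mul v u := by rw [i.mul, ee_add]
  surj y := by
    obtain ⟨v', hv⟩ := crd_surj h (fun j => ![y j 1, y j 0, y j 0 + y j 1]) fun j => by
      rw [show ∑ x : Fin (2 ^ 1 + 1), (![y j 1, y j 0, y j 0 + y j 1] : Fin (2 ^ 1 + 1) → ZMod 2) x =
        y j 1 + y j 0 + (y j 0 + y j 1) from Fin.sum_univ_three _, add_comm (y j 1) (y j 0)]
      exact add_self _
    obtain ⟨v, rfl⟩ := i.surj v'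
    refine ⟨v, ?_⟩
    funext j
    apply ext2
    · rw [ee_zero', hv]; rfl
    · rw [ee_one', hv]; rfl
  ker v := by
    rw [mem_odd_iff h i, ← crd_eq_zero_iff h]
    constructor
    · intro h1
      funext j
      exact (ee_eq_zero_iff h).1 (congrFun h1 j)
    · intro h1
      funext j
      exact (ee_eq_zero_iff h).2 (by rw [h1]; rfl)
  lift A := by
    choose τ hτ using fun j => exists_perm (A j)
    obtain ⟨g, hg, h1⟩ := exists_lift h τ
    exact ⟨g, aacts h i hg h1 hτ⟩
  norm g x A hA := by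
    obtain ⟨τ, h1, h2⟩ := acts_of_ee h (g := x) (A := A) fun v' j => by
      obtain ⟨v, rfl⟩ := i.surj v'
      rw [← i.act]
      exact hA v j
    obtain ⟨σ, τ', h3'⟩ := h.perm g
    have h3 : Acts w g σ τ' := h3'
    have h4 := (h3.mul h1).mul h3.inv
    have h5 : σ * 1 * σ⁻¹ = 1 := by group
    rw [h5] at h4
    choose B hB using fun j => exists_mat ((τ' ((1 : Equiv.Perm (Fin k)) (σ⁻¹ j)) * τ (σ⁻¹ j)) * (τ' (σ⁻¹ j))⁻¹)
    refine ⟨B, fun v j => ?_⟩
    rw [i.act]
    exact ee_smul h h4 hB _ _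
  perm g := by
    obtain ⟨σ, τ, h1⟩ := h.perm g
    refine ⟨σ, fun v j => ?_⟩
    rw [ee_eq_zero_iff, ee_eq_zero_iff, i.act]
    have h2 := crd_smul h h1 (ι v) j
    constructor
    · intro h3
      funext x
      rw [← h2, h3]
      rfl
    · intro h3
      funext x
      obtain ⟨y, rfl⟩ := (τ j).surjective x
      rw [h2, h3]
      rfl
  trans j l := by
    obtain ⟨t, ht, h1⟩ := h.trans j l
    obtain ⟨σ, τ, h2⟩ := h.perm t
    refine ⟨t, ht, fun v => ?_⟩
    have hσ : σ j = l := by
      rw [h2 j 0] at h1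
      exact (w_inj h h1).1
    rw [ee_eq_zero_iff, ee_eq_zero_iff, i.act, ← hσ]
    have h3 := crd_smul h h2 (ι v) j
    constructor
    · intro h4
      funext x
      rw [← h3, h4]
      rfl
    · intro h4
      funext x
      obtain ⟨y, rfl⟩ := (τ j).surjective x
      rw [h3, h4]
      rfl
  line t ht := by
    obtain ⟨σ, τ, h2⟩ := h.perm t
    refine ⟨σ, fun v j => ?_⟩
    rw [ee_one', ee_one', i.act]
    have h3 := crd_smul h h2 (ι v) j 0
    rw [fix_zero h ht h2] at h3
    rw [h3]
  unip b := by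
    obtain ⟨g, hg, h1⟩ := exists_lift h fun j => pu (b j)
    exact ⟨g, mem_T_of h h1, aacts h i hg h1 fun j x => ap_up_pt (b j) x⟩
  gen K hTK hK := by
    rw [eq_top_iff, ← h.gen]
    refine sup_le ?_ hTK
    rw [closure_le]
    rintro d ⟨a, χ, hd⟩
    obtain ⟨j, x, y, hxy, ha, h1⟩ := h.all d a χ hd
    have h2 : Acts w d 1 (Function.update 1 j (Equiv.swap x y)) := by
      intro l z
      rw [(h1 l z).1]
      congr 1
      by_cases hl : l = j
      · subst hl
        simp
      · simp [hl]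
    choose A hA using fun l => exists_mat ((Function.update (1 : Fin k → Equiv.Perm (Fin (2 ^ 1 + 1))) j
      (Equiv.swap x y)) l)
    exact hK d A (aacts h i (subset_closure hd.mem) h2 hA)
  off A hAT hA := by
    classical
    have key : ∀ a ∈ A, ∃ b : Fin k → ZMod 2, Acts w a 1 (fun j => pu (b j)) ∧ a ∈ closure (DD X V') ∧
        ∀ j, b j ≠ 0 → ∃ c ∈ A, Acts w c 1 (Pi.mulSingle j (pu 1)) := by
      intro a ha
      obtain ⟨τ, h1⟩ := offData h i hAT hA.comm hA.sq hA.le a ha
      choose b hb using fun j => eq_pu (τ j) (h1.zero j)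
      have h2 : τ = fun j => pu (b j) := funext hb
      refine ⟨b, h2 ▸ h1.acts, mem_closure_of_acts h h1.acts, fun j hj => ?_⟩
      have h3 : τ j = Equiv.swap 1 2 := by rw [hb j, pu, if_neg hj]
      have h4 : τ j 1 = 2 := by rw [h3, Equiv.swap_apply_left]
      obtain ⟨c, hc, h5⟩ := h1.swap j 1 (by rw [h4]; decide)
      refine ⟨c, hc, ?_⟩
      rw [h4] at h5
      exact h5
    refine ⟨{j | ∃ a ∈ A, Acts w a 1 (Pi.mulSingle j (pu 1))}, fun a ha => ?_, fun b hb => ?_⟩
    · obtain ⟨b, h1, h2, h3⟩ := key a ha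
      refine ⟨b, fun j hj => ?_, aacts h i h2 h1 fun j x => ap_up_pt (b j) x⟩
      by_contra hne
      exact hj (h3 j hne)
    · let K : Subgroup (Fin k → Equiv.Perm (Fin (2 ^ 1 + 1))) :=
        { carrier := {τ | ∃ g ∈ A, Acts w g 1 τ}
          one_mem' := ⟨1, one_mem _, Acts.one⟩
          mul_mem' := by
            rintro a b ⟨g, hg, h1⟩ ⟨g', hg', h2⟩
            exact ⟨g * g', mul_mem hg hg', h1.mul h2⟩
          inv_mem' := by
            rintro a ⟨g, hg, h1⟩
            exact ⟨g⁻¹, inv_mem hg, h1.inv⟩ }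
      have h1 : (fun j => pu (b j)) ∈ K := by
        refine Subgroup.pi_mem_of_mulSingle_mem _ fun j => ?_
        rcases zmod_cases (b j) with h0 | h0
        · rw [h0]
          have : pu 0 = 1 := rfl
          rw [this, Pi.mulSingle_one]
          exact one_mem K
        · rw [h0]
          by_contra hne
          have h3 := hb j fun hj => hne hj
          rw [h0] at h3
          exact one_ne h3
      obtain ⟨g, hg, h2⟩ := h1
      obtain ⟨b', -, h3, -⟩ := key g hg
      exact ⟨g, hg, aacts h i h3 h2 fun j x => ap_up_pt (b j) x⟩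

end

end Cfsg.Agent.Omega.FFBr.Two

end

section


/-!
# The FF theorem for minimal parabolics, `q = 2`

`Abs X V T M` (`FFBr.Def`) and an element `d ≠ 1` with `|V : C_V(d)| ≤ 2`.

* `two` : there are no over-offenders, and `AConcl T V` (`AbsSym` or `AbsNat (ZMod 2)`);
* `two_of_off` : the same for an offender of order 2.
-/

set_option autoImplicit false

namespace Cfsg.Agent.Omega.FFBr.Two

open Subgroup Cfsg.Agent.Omega.Transv
open Cfsg.Agent.ClassTwoFusion.Quad (cv mem_cv mem_cv_singleton)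

variable {X V : Type*} [Group X] [Group V] [MulDistribMulAction X V] {T : Sylow 2 X} {M : Subgroup X}

/-- **The FF theorem, `q = 2`.** -/
theorem two [Finite X] [Finite V] (hA : Abs X V T M) {d : X} (hd1 : d ≠ 1) (hd : (cv V ({d} : Set X)).index ≤ 2) :
    ANoOver X V ∧ AConcl (T : Subgroup X) V := by
  classical
  let i1 : AddCommGroup (Additive V) :=
    { (inferInstance : AddGroup (Additive V)) with
      add_comm := fun v w => congrArg Additive.ofMul (hA.comm (Additive.toMul v) (Additive.toMul w)) }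
  let i2 : Module (ZMod 2) (Additive V) := AddCommGroup.zmodModule (n := 2) fun v => by
    rw [two_nsmul]
    exact congrArg Additive.ofMul (hA.sq (Additive.toMul v))
  let i3 : DistribMulAction X (Additive V) :=
    { smul := fun x v => Additive.ofMul (x • Additive.toMul v)
      one_smul := fun v => congrArg Additive.ofMul (one_smul X (Additive.toMul v))
      mul_smul := fun x y v => congrArg Additive.ofMul (mul_smul x y (Additive.toMul v))
      smul_zero := fun x => congrArg Additive.ofMul (smul_one x)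
      smul_add := fun x v w => congrArg Additive.ofMul (smul_mul' x (Additive.toMul v) (Additive.toMul w)) }
  have i : Tr X (Additive.ofMul : V → Additive V) :=
    ⟨Additive.ofMul.injective, Additive.ofMul.surjective, fun _ _ => rfl, fun _ _ => rfl⟩
  have : Finite (Additive V) := inferInstanceAs (Finite V)
  -- `d` is a transvection
  set K : Subgroup V := cv V ({d} : Set X) with hK
  have hmem : ∀ v : V, v ∈ K ↔ d • v = v := fun v => mem_cv_singleton
  have hne : K ≠ ⊤ := by
    intro h0
    apply hd1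
    refine hA.faith d fun v => ?_
    rw [← hmem, h0]
    exact mem_top v
  have hidx : K.index = 2 := by
    have h1 : K.index ≠ 1 := fun h0 => hne (Subgroup.index_eq_one.1 h0)
    have h2 : K.index ≠ 0 := Subgroup.index_ne_zero_of_finite
    omega
  obtain ⟨v0, hv0⟩ : ∃ v0, v0 ∉ K := by
    by_contra hcon
    push Not at hcon
    exact hne (eq_top_iff.2 fun v _ => hcon v)
  let χ0 : Additive V →+ ZMod 2 :=
    { toFun := fun v => if Additive.toMul v ∈ K then 0 else 1
      map_zero' := if_pos (one_mem K)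
      map_add' := fun v w => by
        have h1 : (Additive.toMul (v + w) ∈ K ↔ (Additive.toMul v ∈ K ↔ Additive.toMul w ∈ K)) :=
          Subgroup.mul_mem_iff_of_index_two hidx
        by_cases h2 : Additive.toMul v ∈ K
        · by_cases h3 : Additive.toMul w ∈ K
          · rw [if_pos (h1.2 ⟨fun _ => h3, fun _ => h2⟩), if_pos h2, if_pos h3, add_zero]
          · rw [if_neg fun h0 => h3 ((h1.1 h0).1 h2), if_pos h2, if_neg h3, zero_add]
        · by_cases h3 : Additive.toMul w ∈ K
          · rw [if_neg fun h0 => h2 ((h1.1 h0).2 h3), if_neg h2, if_pos h3, add_zero]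
          · rw [if_pos (h1.2 ⟨fun h0 => absurd h0 h2, fun h0 => absurd h0 h3⟩), if_neg h2, if_neg h3,
              one_add_one] }
  let χ : Du (Additive V) := χ0.toZModLinearMap 2
  have hχ : ∀ v : V, χ (Additive.ofMul v) = if v ∈ K then 0 else 1 := fun v => rfl
  have hTv : Tv d (Additive.ofMul (d • v0 * v0)) χ := by
    refine ⟨fun h0 => ?_, fun h0 => ?_, fun v => ?_⟩
    · have h1 : d • v0 * v0 = 1 := h0
      rw [mul_eq_one_iff_eq_inv] at h1
      have h2 : v0⁻¹ = v0 := inv_eq_of_mul_eq_one_left (hA.sq v0)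
      rw [h2] at h1
      exact hv0 ((hmem v0).2 h1)
    · have h1 := LinearMap.congr_fun h0 (Additive.ofMul v0)
      rw [hχ, if_neg hv0] at h1
      exact one_ne h1
    · obtain ⟨v, rfl⟩ := Additive.ofMul.surjective v
      rw [hχ]
      by_cases h1 : v ∈ K
      · rw [if_pos h1, zero_smul, add_zero]
        exact congrArg Additive.ofMul ((hmem v).1 h1)
      · rw [if_neg h1, one_smul]
        have h2 : v0⁻¹ * v ∈ K := by
          rw [Subgroup.mul_mem_iff_of_index_two hidx, inv_mem_iff]
          exact ⟨fun h0 => absurd h0 hv0, fun h0 => absurd h0 h1⟩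
        have h3 := (hmem _).1 h2
        rw [smul_mul', smul_inv'] at h3
        have h4 : d • v = v * (d • v0 * v0) := by
          have h5 : v0⁻¹ = v0 := inv_eq_of_mul_eq_one_left (hA.sq v0)
          have h6 : d • v = (d • v0) * (v0⁻¹ * v) := by
            rw [← h3, mul_inv_cancel_left]
          rw [h6, h5, hA.comm v, mul_assoc]
        exact congrArg Additive.ofMul h4
  have hG : Gen X (Additive V) T M :=
    { faith := fun g hg => hA.faith g fun v => hg (Additive.ofMul v)
      le := hA.TM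
      ne := hA.Mne
      max := hA.max
      core := hA.core
      tv := ⟨d, hTv.mem⟩ }
  obtain ⟨k, m, w, h⟩ := hG.main
  refine ⟨noOver h i, ?_⟩
  rcases Nat.lt_or_ge m 2 with hm | hm
  · have hm1 : m = 1 := by have := h.m_pos; omega
    subst hm1
    exact Or.inl ⟨ZMod 2, inferInstance, inferInstance, inferInstance, k, h.k_pos, ⟨absNat h i⟩⟩
  · exact Or.inr ⟨k, m, h.k_pos, hm, ⟨absSym h i⟩⟩

/-- the same for an offender of order 2 -/
theorem two_of_off [Finite X] [Finite V] (hA : Abs X V T M) {A : Subgroup X} (hO : AOff V A) (h2 : Nat.card A = 2) :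
    ANoOver X V ∧ AConcl (T : Subgroup X) V := by
  obtain ⟨d, hd, hd1⟩ : ∃ d ∈ A, d ≠ 1 := by
    by_contra hcon
    push Not at hcon
    exact hO.ne (eq_bot_iff.2 fun x hx => Subgroup.mem_bot.2 (hcon x hx))
  refine two hA hd1 ?_
  refine le_trans ?_ (hO.le.trans h2.le)
  have h3 : cv V (A : Set X) ≤ cv V ({d} : Set X) := Cfsg.Agent.ClassTwoFusion.Quad.cv_anti (Set.singleton_subset_iff.2 hd)
  exact Nat.le_of_dvd (Nat.pos_of_ne_zero Subgroup.index_ne_zero_of_finite) (Subgroup.index_dvd_of_le h3)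

end Cfsg.Agent.Omega.FFBr.Two

end
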