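import Cfsg.Agent.Mrg.Omega.FFBr.Main
import Cfsg.Agent.Mrg.Omega.FFBr.NatOf
import Cfsg.Agent.Mrg.Omega.FFBr.TwoOff
import Cfsg.Agent.Mrg.Omega.FF.ToLocMain
import Cfsg.Agent.Mrg.Omega.FF.GlobComm


/-!
# THEOREM FF (K-free): `FFThm.Stmt` from the statement on offenders for `q ≥ 4`
-/

set_option autoImplicit false
set_option linter.unusedSectionVars false

namespace Cfsg.Agent.Omega.FFBr.Glue

open Subgroup Cfsg.Agent.ClassTwoFusion.Quad Cfsg.Agent.Omega.FF.Glob

universe u

section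

variable {X V : Type*} [Group X] [Group V] [MulDistribMulAction X V]

/-- `Out` from `Out0` and the statement on offenders -/
theorem out_of {T : Sylow 2 X} {k : ℕ} {A B : Fin k → Subgroup X} (o : Out0 V T k A B)
    (off : ∀ E : Subgroup X, E ≤ T → AOff V E → ∃ I : Set (Fin k), E = ⨆ i ∈ I, A i) :
    Out V (T : Subgroup X) k A B where
  comm := o.comm
  sq := o.sq
  two := T.2
  nat := o.nat
  le := o.le
  card4 := o.card4
  LL := o.LL
  mod := o.mod
  cjL := o.cjL
  cjA := o.cjA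
  trans := o.trans
  gen := o.gen
  off := off

theorem noOver_of_loc {T : Sylow 2 X} {M : Subgroup X} {D : Set (Subgroup X)} {q : ℕ} {Q : Subgroup X}
    (h : Loc V T M D q Q) : ANoOver X V := fun E _ h2 => h.noover E h2

end

/-- the statement on offenders, `q ≥ 4` -/
def OffStmt : Prop :=
  ∀ (X V : Type u) [Group X] [Finite X] [Group V] [Finite V] [MulDistribMulAction X V] (T : Sylow 2 X) (k : ℕ)
    (A B : Fin k → Subgroup X), Out0 V T k A B →
      ∀ E : Subgroup X, E ≤ T → AOff V E → ∃ I : Set (Fin k), E = ⨆ i ∈ I, A i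

theorem aStmt_of (hoff : OffStmt.{u}) : AStmt.{u} := by
  intro X V _ _ _ _ _ T M hA hO
  obtain ⟨D, q, Q, h⟩ := Cfsg.Agent.Omega.FF.ToLoc.exists_loc hA hO
  rcases Nat.lt_or_ge 2 q with hq | hq
  · obtain ⟨k, A, B, hk, o, -⟩ := h.exists_out hq
    obtain ⟨F, i1, i2, i3, h3⟩ := (out_of o (hoff X V T k A B o)).absNat hk
    exact ⟨noOver_of_loc h, Or.inl ⟨F, i1, i2, i3, k, hk, h3⟩⟩
  · obtain ⟨A, B, hAt, -⟩ := h.two
    have h1 : Nat.card A = q := h.card A hAt.mem
    have h2 : (cv V (A : Set X)).index = q := h.idx A hAt.mem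
    have h3 : q = 2 := le_antisymm hq h.two_le
    have hne : A ≠ ⊥ := by
      rintro rfl
      rw [Nat.card_unique] at h1
      omega
    refine Two.two_of_off hA (A := A) ⟨fun a ha b hb => ?_, h.sqA A hAt.mem, hne, by rw [h1, h2]⟩ (by rw [h1, h3])
    have key : ∀ x ∈ A, x⁻¹ = x := fun x hx => inv_eq_of_mul_eq_one_left (h.sqA A hAt.mem x hx)
    have h4 := key _ (mul_mem ha hb)
    rw [mul_inv_rev, key a ha, key b hb] at h4
    exact h4.symm

/-- **THEOREM FF from the statement on offenders for `q ≥ 4`** -/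
theorem stmt_of_off (hoff : OffStmt.{u}) : FFThm.Stmt.{u} := stmt_of (aStmt_of hoff)

end Cfsg.Agent.Omega.FFBr.Glue
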