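import Cfsg.Agent.Mrg.Omega.FFBr.Act
import Cfsg.Agent.Mrg.Omega.FrameI

section


/-!
# SQ0: the abstract FF theorem implies `FFThm.Stmt` (bridges B1 and B2)
-/

set_option autoImplicit false
set_option linter.unusedSectionVars false

namespace Cfsg.Agent.Omega.FFBr

open Subgroup Cfsg Cfsg.Agent.ZN Cfsg.Agent.ZN.ChoiceBase Cfsg.Agent.ZN.ChoiceSit Cfsg.Agent.Omega.MinPar
open Cfsg.Agent.Omega.FrameFF Cfsg.Agent.MinSimple.MinParabolic Cfsg.Agent.Omega.FFThm
open Cfsg.Agent.Lib.SL2Mat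
open Cfsg.Agent.Omega.NatPair (ap)

universe u

variable {G : Type u} [Group G] {H V : Subgroup G}

/-! ### Images -/

/-- the group induced by `A` on `V` -/
def im (h : H ≤ normalizer (V : Set G)) (A : Subgroup G) : Subgroup (XX h) := (A.subgroupOf H).map (pr h)

theorem mem_im {h : H ≤ normalizer (V : Set G)} {A : Subgroup G} {x : XX h} :
    x ∈ im h A ↔ ∃ a : H, (a : G) ∈ A ∧ pr h a = x := Iff.rfl

theorem card_im [Finite G] (h : H ≤ normalizer (V : Set G)) {A : Subgroup G} (hA : A ≤ H) :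
    Nat.card (im h A) * Nat.card ↥(A ⊓ centralizer (V : Set G)) = Nat.card A := by
  have h1 : (pr h).ker.relIndex (A.subgroupOf H) = Nat.card (im h A) := relIndex_ker _ _
  rw [ker_pr] at h1
  have h2 : ((centralizer (V : Set G)).subgroupOf H).relIndex (A.subgroupOf H) =
      (centralizer (V : Set G)).relIndex A := by
    rw [relIndex_subgroupOf hA]
  rw [h2] at h1
  rw [← h1, inf_comm, mul_comm]
  have h3 := (((centralizer (V : Set G)).subgroupOf A).card_mul_index)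
  have h4 : Nat.card ((centralizer (V : Set G)).subgroupOf A) = Nat.card ↥(centralizer (V : Set G) ⊓ A) := by
    rw [← inf_subgroupOf_right]
    exact Nat.card_congr (subgroupOfEquivOfLe inf_le_right).toEquiv
  rw [h4] at h3
  exact h3

theorem mem_cv_im (h : H ≤ normalizer (V : Set G)) {A : Subgroup G} (hA : A ≤ H) (v : V) :
    v ∈ ClassTwoFusion.Quad.cv V (im h A : Set (XX h)) ↔ (v : G) ∈ centralizer (A : Set G) := by
  rw [mem_centralizer_iff]
  constructor
  · intro hv a ha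
    exact (pr_smul_eq_iff h).1 (hv (pr h ⟨a, hA ha⟩) ⟨⟨a, hA ha⟩, ha, rfl⟩)
  · rintro hv _ ⟨a, ha, rfl⟩
    exact (pr_smul_eq_iff h).2 (hv a ha)

theorem card_cv_im [Finite G] (h : H ≤ normalizer (V : Set G)) {A : Subgroup G} (hA : A ≤ H) :
    Nat.card ↥(V ⊓ centralizer (A : Set G)) * (ClassTwoFusion.Quad.cv V (im h A : Set (XX h))).index = Nat.card V := by
  rw [← (ClassTwoFusion.Quad.cv V (im h A : Set (XX h))).card_mul_index]
  congr 1
  refine Nat.card_congr ⟨fun x => ⟨⟨x, x.2.1⟩, (mem_cv_im h hA _).2 x.2.2⟩,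
    fun y => ⟨(y : V), (y : V).2, (mem_cv_im h hA _).1 y.2⟩, fun x => rfl, fun y => rfl⟩

theorem aoff_of [Finite G] (h : H ≤ normalizer (V : Set G)) {A : Subgroup G} (hA : A ≤ H) (ho : Off V A) :
    AOff V (im h A) where
  comm := by
    rintro _ ⟨a, ha, rfl⟩ _ ⟨b, hb, rfl⟩
    rw [← map_mul, ← map_mul]
    congr 1
    apply Subtype.ext
    have := ho.elem.1
    exact congrArg (Subtype.val : A → G) (mul_comm' (⟨(a : G), ha⟩ : A) ⟨(b : G), hb⟩)
  sq := by
    rintro _ ⟨a, ha, rfl⟩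
    rw [← map_mul, ← map_one (pr h)]
    congr 1
    apply Subtype.ext
    have := ho.elem.2 a ha
    rw [sq] at this
    exact this
  ne := by
    intro h1
    apply ho.ne
    intro a ha
    have h2 : pr h ⟨a, hA ha⟩ ∈ im h A := ⟨⟨a, hA ha⟩, ha, rfl⟩
    rw [h1, mem_bot, pr_eq_one] at h2
    exact h2
  le := by
    have h1 := card_im h hA
    have h2 := card_cv_im h hA
    have h3 := ho.le
    rw [← h1, ← h2] at h3
    have h4 : 0 < Nat.card ↥(A ⊓ centralizer (V : Set G)) := Nat.card_pos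
    have h5 : 0 < Nat.card ↥(V ⊓ centralizer (A : Set G)) := Nat.card_pos
    have h6 : (ClassTwoFusion.Quad.cv V (im h A : Set (XX h))).index *
        (Nat.card ↥(V ⊓ centralizer (A : Set G)) * Nat.card ↥(A ⊓ centralizer (V : Set G))) ≤
        Nat.card (im h A) * (Nat.card ↥(V ⊓ centralizer (A : Set G)) * Nat.card ↥(A ⊓ centralizer (V : Set G))) := by
      calc _ = Nat.card ↥(V ⊓ centralizer (A : Set G)) * (ClassTwoFusion.Quad.cv V (im h A : Set (XX h))).index *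
            Nat.card ↥(A ⊓ centralizer (V : Set G)) := by ring
        _ ≤ Nat.card (im h A) * Nat.card ↥(A ⊓ centralizer (V : Set G)) *
            Nat.card ↥(V ⊓ centralizer (A : Set G)) := h3
        _ = _ := by ring
    exact Nat.le_of_mul_le_mul_right h6 (Nat.mul_pos h5 h4)

theorem noOver_of [Finite G] (h : H ≤ normalizer (V : Set G)) (hn : ANoOver (XX h) V) : NoOver V H := by
  intro A hA he
  have h1 := card_im h hA
  have h2 := card_cv_im h hA
  have h3 : Nat.card (im h A) ≤ (ClassTwoFusion.Quad.cv V (im h A : Set (XX h))).index := by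
    apply hn
    · rintro _ ⟨a, ha, rfl⟩ _ ⟨b, hb, rfl⟩
      rw [← map_mul, ← map_mul]
      congr 1
      apply Subtype.ext
      have := he.1
      exact congrArg (Subtype.val : A → G) (mul_comm' (⟨(a : G), ha⟩ : A) ⟨(b : G), hb⟩)
    · rintro _ ⟨a, ha, rfl⟩
      rw [← map_mul, ← map_one (pr h)]
      congr 1
      apply Subtype.ext
      have := he.2 a ha
      rw [sq] at this
      exact this
  rw [← h1, ← h2]
  calc _ = Nat.card (im h A) * (Nat.card ↥(V ⊓ centralizer (A : Set G)) * Nat.card ↥(A ⊓ centralizer (V : Set G))) := by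
        ring
    _ ≤ (ClassTwoFusion.Quad.cv V (im h A : Set (XX h))).index *
        (Nat.card ↥(V ⊓ centralizer (A : Set G)) * Nat.card ↥(A ⊓ centralizer (V : Set G))) :=
        Nat.mul_le_mul_right _ h3
    _ = _ := by ring

/-! ### `O²` -/

/-- an element of odd order of the image is the image of an element of odd order -/
theorem exists_odd {A B : Type*} [Group A] [Group B] [Finite A] {f : A →* B} {a : A} (ha : Odd (orderOf (f a))) :
    ∃ n : ℕ, Odd (orderOf (a ^ n)) ∧ f (a ^ n) = f a := by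
  obtain ⟨k, r, hr, hk⟩ := Nat.exists_eq_two_pow_mul_odd (orderOf_pos a).ne'
  have hdvd : orderOf (f a) ∣ r := by
    have h1 := orderOf_map_dvd f a
    rw [hk] at h1
    exact (Nat.Coprime.pow_right k (Nat.coprime_two_right.2 ha)).dvd_of_dvd_mul_left h1
  have hco : Nat.Coprime (2 ^ k) r := Nat.Coprime.pow_left k (Nat.coprime_two_left.2 hr)
  obtain ⟨n, hn1, hn2⟩ := Nat.chineseRemainder hco 0 1
  refine ⟨n, ?_, ?_⟩
  · have h1 : (a ^ n) ^ r = 1 := by
      rw [← pow_mul]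
      have h2 : 2 ^ k ∣ n := (Nat.modEq_zero_iff_dvd).1 hn1
      obtain ⟨c, rfl⟩ := h2
      rw [show 2 ^ k * c * r = orderOf a * c by rw [hk]; ring, pow_mul, pow_orderOf_eq_one, one_pow]
    exact Odd.of_dvd_nat hr (orderOf_dvd_of_pow_eq_one h1)
  · rw [map_pow]
    have h2 : n ≡ 1 [MOD orderOf (f a)] := Nat.ModEq.of_dvd hdvd hn2
    rw [pow_eq_pow_iff_modEq.2 h2, pow_one]

theorem mem_odd_iff [Finite G] (h : H ≤ normalizer (V : Set G)) (v : V) :
    v ∈ odd (XX h) V ↔ (v : G) ∈ centralizer (MinSimple.VModule.oddGen H : Set G) := by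
  constructor
  · intro hv
    rw [← zpowers_le, le_centralizer_iff, MinSimple.VModule.oddGen_def, closure_le]
    rintro x ⟨hx, ho⟩
    have h1 : pr h ⟨x, hx⟩ • v = v := by
      apply hv
      have h2 := orderOf_map_dvd (pr h) ⟨x, hx⟩
      have h3 : orderOf (⟨x, hx⟩ : H) = orderOf x := orderOf_mk x hx
      rw [h3] at h2
      exact Odd.of_dvd_nat ho h2
    rw [pr_smul_eq_iff] at h1
    rw [SetLike.mem_coe, mem_centralizer_iff]
    intro y hy
    obtain ⟨n, rfl⟩ := mem_zpowers_iff.1 hy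
    have h2 : Commute x (v : G) := h1
    exact (h2.zpow_right n).symm
  · intro hv x hx
    obtain ⟨g, rfl⟩ := pr_surjective h x
    obtain ⟨n, hn1, hn2⟩ := exists_odd hx
    rw [← hn2, pr_smul_eq_iff]
    refine mem_centralizer_iff.1 hv _ (MinSimple.VModule.mem_oddGen (g ^ n).2 ?_)
    rwa [orderOf_coe]

/-! ### Coordinates -/

open Classical in
/-- coordinates on `G` -/
noncomputable def ex {α : Type*} [Zero α] (e : V → α) (g : G) : α := if hg : g ∈ V then e ⟨g, hg⟩ else 0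

theorem ex_of {α : Type*} [Zero α] (e : V → α) {g : G} (hg : g ∈ V) : ex e g = e ⟨g, hg⟩ := dif_pos hg

theorem ex_conj {α : Type*} [Zero α] (h : H ≤ normalizer (V : Set G)) (e : V → α) {g v : G} (hg : g ∈ H) (hv : v ∈ V) :
    ex e (g * v * g⁻¹) = e (pr h ⟨g, hg⟩ • (⟨v, hv⟩ : V)) := by
  rw [ex_of e ((mem_normalizer_iff.1 (h hg) v).1 hv)]
  rfl

theorem actsSL_of [Finite G] {T : Subgroup G} (h : H ≤ normalizer (zl T H : Set G)) {F : Type} [Field F] {k : ℕ}
    (e : zl T H → Fin k → Fin 2 → F) {g : G} (hg : g ∈ H) (A : Fin k → Matrix.SpecialLinearGroup (Fin 2) F) :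
    ActsSL (ex e) (zl T H) (cv T H) g A ↔ AActs e (pr h ⟨g, hg⟩) A := by
  constructor
  · rintro ⟨h1, h2⟩
    refine ⟨fun v i => ?_, fun d hd => ?_⟩
    · have := h1 v v.2 i
      rw [ex_conj h e hg v.2, ex_of e v.2] at this
      exact this
    · rw [pr_smul_eq_iff]
      exact h2 d ⟨d.2, (mem_odd_iff h d).1 hd⟩
  · rintro ⟨h1, h2⟩
    refine ⟨fun v hv i => ?_, fun d hd => ?_⟩
    · rw [ex_conj h e hg hv, ex_of e hv]
      exact h1 _ i
    · exact (pr_smul_eq_iff h).1 (h2 ⟨d, hd.1⟩ ((mem_odd_iff h ⟨d, hd.1⟩).2 hd.2))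

/-- **bridge B2, natural case** -/
noncomputable def natK_of [Finite G] {T : Subgroup G} (hTH : T ≤ H) (h : H ≤ normalizer (zl T H : Set G))
    {S : Subgroup (XX h)}
    (hS : ∀ x : XX h, x ∈ S ↔ ∃ t : H, (t : G) ∈ T ∧ pr h t = x) {F : Type} [Field F] {k : ℕ}
    (a : AbsNat F S (zl T H) k) : NatK F T H (zl T H) (cv T H) k where
  e := ex a.e
  mul v hv w hw := by
    rw [ex_of a.e hv, ex_of a.e hw, ex_of a.e (mul_mem hv hw)]
    exact a.mul ⟨v, hv⟩ ⟨w, hw⟩
  surj x := by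
    obtain ⟨v, hv⟩ := a.surj x
    exact ⟨v, v.2, by rw [ex_of a.e v.2]; exact hv⟩
  ker v hv := by
    rw [ex_of a.e hv, a.ker, mem_odd_iff]
    exact ⟨fun h1 => ⟨hv, h1⟩, fun h1 => h1.2⟩
  lift A := by
    obtain ⟨x, hx⟩ := a.lift A
    obtain ⟨⟨g, hg⟩, rfl⟩ := pr_surjective h x
    exact ⟨g, hg, (actsSL_of h a.e hg A).2 hx⟩
  norm g hg x hx A hA := by
    obtain ⟨B, hB⟩ := a.norm (pr h ⟨g, hg⟩) (pr h ⟨x, hx⟩) A fun v i => by
      have := hA v v.2 i
      rw [ex_conj h a.e hx v.2, ex_of a.e v.2] at this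
      exact this
    refine ⟨B, fun v hv i => ?_⟩
    rw [ex_conj h a.e (mul_mem (mul_mem hg hx) (inv_mem hg)) hv, ex_of a.e hv]
    have h1 := hB ⟨v, hv⟩ i
    rw [← map_inv, ← map_mul, ← map_mul] at h1
    exact h1
  perm g hg := by
    obtain ⟨σ, hσ⟩ := a.perm (pr h ⟨g, hg⟩)
    refine ⟨σ, fun v hv i => ?_⟩
    rw [ex_conj h a.e hg hv, ex_of a.e hv]
    exact hσ _ i
  trans i j := by
    obtain ⟨x, hx, hx'⟩ := a.trans i j
    obtain ⟨⟨t, ht⟩, htT, rfl⟩ := (hS x).1 hx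
    refine ⟨t, htT, fun v hv => ?_⟩
    rw [ex_conj h a.e ht hv, ex_of a.e hv]
    exact hx' _
  line t ht := by
    obtain ⟨σ, hσ⟩ := a.line (pr h ⟨t, hTH ht⟩) ((hS _).2 ⟨⟨t, hTH ht⟩, ht, rfl⟩)
    refine ⟨σ, fun v hv i => ?_⟩
    rw [ex_conj h a.e (hTH ht) hv, ex_of a.e hv]
    exact hσ _ i
  unip b := by
    obtain ⟨x, hx, hx'⟩ := a.unip b
    obtain ⟨⟨t, ht⟩, htT, rfl⟩ := (hS x).1 hx
    exact ⟨t, htT, (actsSL_of h a.e ht _).2 hx'⟩
  gen K hTK hK := by
    have h1 : (K.subgroupOf H).map (pr h) = ⊤ := by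
      apply a.gen
      · intro x hx
        obtain ⟨t, ht, rfl⟩ := (hS x).1 hx
        exact ⟨t, hTK ht, rfl⟩
      · intro x A hA
        obtain ⟨⟨g, hg⟩, rfl⟩ := pr_surjective h x
        exact ⟨⟨g, hg⟩, hK g hg A ((actsSL_of h a.e hg A).2 hA), rfl⟩
    intro g hg
    have h2 : pr h ⟨g, hg⟩ ∈ (K.subgroupOf H).map (pr h) := by rw [h1]; exact mem_top _
    obtain ⟨⟨y, hy⟩, hyK, hyg⟩ := h2
    have hyK' : y ∈ K := hyK
    -- `g y⁻¹` centralises `V`, so it acts as `1`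
    have h3 : pr h (⟨g, hg⟩ * ⟨y, hy⟩⁻¹) = 1 := by rw [map_mul, map_inv, hyg, mul_inv_cancel]
    have h4 : g * y⁻¹ ∈ K := by
      refine hK _ (mul_mem hg (inv_mem hy)) 1 ((actsSL_of h a.e (mul_mem hg (inv_mem hy)) 1).2 ?_)
      have h5 : pr h ⟨g * y⁻¹, mul_mem hg (inv_mem hy)⟩ = 1 := h3
      rw [h5]
      refine ⟨fun v i => ?_, fun d _ => one_smul _ _⟩
      rw [one_smul]
      exact (NatPair.ap_one _).symm
    have h5 := mul_mem h4 hyK'
    rwa [inv_mul_cancel_right] at h5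
  off A hA ho := by
    obtain ⟨I, h1, h2⟩ := a.off (im h A) (by
      rintro _ ⟨t, ht, rfl⟩
      exact (hS _).2 ⟨t, hA ht, rfl⟩) (aoff_of h (hA.trans hTH) ho)
    refine ⟨I, fun t ht => ?_, fun b hb => ?_⟩
    · obtain ⟨b, hb, hb'⟩ := h1 (pr h ⟨t, hTH (hA ht)⟩) ⟨⟨t, hTH (hA ht)⟩, ht, rfl⟩
      exact ⟨b, hb, (actsSL_of h a.e (hTH (hA ht)) _).2 hb'⟩
    · obtain ⟨_, ⟨⟨t, ht⟩, htA, rfl⟩, hb'⟩ := h2 b hb
      exact ⟨t, htA, (actsSL_of h a.e ht _).2 hb'⟩

theorem actsSym_of [Finite G] {T : Subgroup G} (h : H ≤ normalizer (zl T H : Set G)) {k n : ℕ}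
    (e : zl T H → Fin k → Fin n → ZMod 2) {g : G} (hg : g ∈ H) (σ : Equiv.Perm (Fin k))
    (τ : Fin k → Equiv.Perm (Fin n)) : ActsSym (ex e) (zl T H) g σ τ ↔ AActsSym e (pr h ⟨g, hg⟩) σ τ := by
  constructor
  · intro h1 v i x
    have := h1 v v.2 i x
    rw [ex_conj h e hg v.2, ex_of e v.2] at this
    exact this
  · intro h1 v hv i x
    rw [ex_conj h e hg hv, ex_of e hv]
    exact h1 _ i x

theorem cen_iff [Finite G] {T : Subgroup G} (h : H ≤ normalizer (zl T H : Set G)) {g : G} (hg : g ∈ H) :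
    (∀ d ∈ cv T H, g * d = d * g) ↔ ∀ d ∈ odd (XX h) (zl T H), pr h ⟨g, hg⟩ • d = d := by
  constructor
  · intro h1 d hd
    rw [pr_smul_eq_iff]
    exact h1 d ⟨d.2, (mem_odd_iff h d).1 hd⟩
  · intro h1 d hd
    exact (pr_smul_eq_iff h).1 (h1 ⟨d, hd.1⟩ ((mem_odd_iff h ⟨d, hd.1⟩).2 hd.2))

/-- **bridge B2, symmetric case** -/
noncomputable def symK_of [Finite G] {T : Subgroup G} (hTH : T ≤ H) (h : H ≤ normalizer (zl T H : Set G))
    {S : Subgroup (XX h)}
    (hS : ∀ x : XX h, x ∈ S ↔ ∃ t : H, (t : G) ∈ T ∧ pr h t = x) {k m : ℕ}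
    (a : AbsSym S (zl T H) k m) : SymK T H (zl T H) (cv T H) k m where
  e := ex a.e
  mul v hv w hw := by
    rw [ex_of a.e hv, ex_of a.e hw, ex_of a.e (mul_mem hv hw)]
    exact a.mul ⟨v, hv⟩ ⟨w, hw⟩
  even v hv i := by
    rw [ex_of a.e hv]
    exact a.even _ i
  surj y hy := by
    obtain ⟨v, hv⟩ := a.surj y hy
    exact ⟨v, v.2, by rw [ex_of a.e v.2]; exact hv⟩
  ker v hv := by
    rw [ex_of a.e hv, a.ker, mem_odd_iff]
    exact ⟨fun h1 => ⟨hv, h1⟩, fun h1 => h1.2⟩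
  lift τ := by
    obtain ⟨x, hx, hx'⟩ := a.lift τ
    obtain ⟨⟨g, hg⟩, rfl⟩ := pr_surjective h x
    exact ⟨g, hg, (actsSym_of h a.e hg 1 τ).2 hx, (cen_iff h hg).2 hx'⟩
  perm g hg := by
    obtain ⟨σ, τ, h1⟩ := a.perm (pr h ⟨g, hg⟩)
    exact ⟨σ, τ, (actsSym_of h a.e hg σ τ).2 h1⟩
  trans i j := by
    obtain ⟨x, hx, σ, τ, h1, h2⟩ := a.trans i j
    obtain ⟨⟨t, ht⟩, htT, rfl⟩ := (hS x).1 hx
    exact ⟨t, htT, σ, τ, (actsSym_of h a.e ht σ τ).2 h1, h2⟩
  fix0 t ht σ τ h1 := a.fix0 (pr h ⟨t, hTH ht⟩) ((hS _).2 ⟨⟨t, hTH ht⟩, ht, rfl⟩) σ τ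
    ((actsSym_of h a.e (hTH ht) σ τ).1 h1)
  gen K hTK hK := by
    have h1 : (K.subgroupOf H).map (pr h) = ⊤ := by
      apply a.gen
      · intro x hx
        obtain ⟨t, ht, rfl⟩ := (hS x).1 hx
        exact ⟨t, hTK ht, rfl⟩
      · intro x τ hτ hd
        obtain ⟨⟨g, hg⟩, rfl⟩ := pr_surjective h x
        exact ⟨⟨g, hg⟩, hK g hg τ ((actsSym_of h a.e hg 1 τ).2 hτ) ((cen_iff h hg).2 hd), rfl⟩
    intro g hg
    have h2 : pr h ⟨g, hg⟩ ∈ (K.subgroupOf H).map (pr h) := by rw [h1]; exact mem_top _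
    obtain ⟨⟨y, hy⟩, hyK, hyg⟩ := h2
    have hyK' : y ∈ K := hyK
    have h3 : pr h (⟨g, hg⟩ * ⟨y, hy⟩⁻¹) = 1 := by rw [map_mul, map_inv, hyg, mul_inv_cancel]
    have h4 : g * y⁻¹ ∈ K := by
      have h5 : pr h ⟨g * y⁻¹, mul_mem hg (inv_mem hy)⟩ = 1 := h3
      refine hK _ (mul_mem hg (inv_mem hy)) 1 ((actsSym_of h a.e (mul_mem hg (inv_mem hy)) 1 1).2 ?_)
        ((cen_iff h (mul_mem hg (inv_mem hy))).2 ?_)
      · rw [h5]
        intro v i x
        rw [one_smul]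
        rfl
      · rw [h5]
        exact fun d _ => one_smul _ _
    have h5 := mul_mem h4 hyK'
    rwa [inv_mul_cancel_right] at h5
  off A hA ho := by
    obtain ⟨h1, h2⟩ := a.off (im h A) (by
      rintro _ ⟨t, ht, rfl⟩
      exact (hS _).2 ⟨t, hA ht, rfl⟩) (aoff_of h (hA.trans hTH) ho)
    refine ⟨fun t ht => (cen_iff h (hTH (hA ht))).2 (h1 _ ⟨⟨t, hTH (hA ht)⟩, ht, rfl⟩), fun t ht => ?_⟩
    obtain ⟨τ, h3, h4⟩ := h2 (pr h ⟨t, hTH (hA ht)⟩) ⟨⟨t, hTH (hA ht)⟩, ht, rfl⟩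
    refine ⟨τ, (actsSym_of h a.e (hTH (hA ht)) 1 τ).2 h3, fun i x hx => ?_⟩
    obtain ⟨h5, _, ⟨⟨b, hb⟩, hbA, rfl⟩, h6⟩ := h4 i x hx
    exact ⟨h5, b, hbA, (actsSym_of h a.e hb _ _).2 h6⟩

/-- **the abstract FF theorem implies the FF theorem** -/
theorem stmt_of (hA : AStmt.{u}) : FFThm.Stmt.{u} := by
  intro G _ _ T H hT hmin h2 ⟨A, hAH, ho⟩
  have h : H ≤ normalizer (zl T H : Set G) := MinSimple.VModule.le_normalizer_zl T H
  have hc : ¬ H ≤ centralizer (zl T H : Set G) := fun h1 => ho.ne (hAH.trans h1)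
  obtain ⟨S, M, hM, hS⟩ := abs_of hT hmin h2 hc h
  obtain ⟨h3, h4⟩ := hA (XX h) (zl T H) S M hM ⟨im h A, aoff_of h hAH ho⟩
  refine ⟨noOver_of h h3, ?_⟩
  rcases h4 with ⟨F, i1, i2, i3, k, hk, ⟨a⟩⟩ | ⟨k, m, hk, hm, ⟨a⟩⟩
  · exact Or.inl ⟨F, i1, i2, i3, k, hk, ⟨natK_of hmin.le h hS a⟩⟩
  · exact Or.inr ⟨k, m, hk, hm, ⟨symK_of hmin.le h hS a⟩⟩

end Cfsg.Agent.Omega.FFBr

end

section


/-!
# SQ0: the abstract FF theorem implies `FFThm.StmtM` (module form)
-/

set_option autoImplicit false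
set_option linter.unusedSectionVars false

namespace Cfsg.Agent.Omega.FFBr

open Subgroup Cfsg Cfsg.Agent.ZN Cfsg.Agent.ZN.ChoiceBase Cfsg.Agent.ZN.ChoiceSit Cfsg.Agent.Omega.MinPar
open Cfsg.Agent.Omega.FrameFF Cfsg.Agent.MinSimple.MinParabolic Cfsg.Agent.Omega.FFThm
open Cfsg.Agent.Lib.SL2Mat
open Cfsg.Agent.Omega.NatPair (ap)

universe u

variable {G : Type u} [Group G] {H V : Subgroup G}

theorem im_comm_of_elemM (h : H ≤ normalizer (V : Set G)) {A : Subgroup G} (hA : A ≤ H) (he : ElemM V A) :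
    ∀ a ∈ im h A, ∀ b ∈ im h A, a * b = b * a := by
  rintro _ ⟨a, ha, rfl⟩ _ ⟨b, hb, rfl⟩
  have h1 : pr h (a * b * a⁻¹ * b⁻¹) = 1 := by
    obtain ⟨a, ha'⟩ := a
    obtain ⟨b, hb'⟩ := b
    exact (pr_eq_one h).2 (he.comm a ha b hb)
  rw [map_mul, map_mul, map_mul, map_inv, map_inv] at h1
  exact mul_inv_eq_iff_eq_mul.1 (mul_inv_eq_one.1 h1)

theorem im_sq_of_elemM (h : H ≤ normalizer (V : Set G)) {A : Subgroup G} (hA : A ≤ H) (he : ElemM V A) :
    ∀ a ∈ im h A, a * a = 1 := by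
  rintro _ ⟨a, ha, rfl⟩
  have h1 : pr h (a ^ 2) = 1 := by
    obtain ⟨a, ha'⟩ := a
    exact (pr_eq_one h).2 (he.sq a ha)
  rw [← map_mul, ← sq]
  exact h1

theorem aoff_of_offM [Finite G] (h : H ≤ normalizer (V : Set G)) {A : Subgroup G} (hA : A ≤ H) (ho : OffM V A) :
    AOff V (im h A) where
  comm := im_comm_of_elemM h hA ho.toElemM
  sq := im_sq_of_elemM h hA ho.toElemM
  ne := by
    intro h1
    apply ho.ne
    intro a ha
    have h2 : pr h ⟨a, hA ha⟩ ∈ im h A := ⟨⟨a, hA ha⟩, ha, rfl⟩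
    rw [h1, mem_bot, pr_eq_one] at h2
    exact h2
  le := by
    have h1 := card_im h hA
    have h2 := card_cv_im h hA
    have h3 := ho.le
    rw [← h1, ← h2] at h3
    have h4 : 0 < Nat.card ↥(A ⊓ centralizer (V : Set G)) := Nat.card_pos
    have h5 : 0 < Nat.card ↥(V ⊓ centralizer (A : Set G)) := Nat.card_pos
    have h6 : (ClassTwoFusion.Quad.cv V (im h A : Set (XX h))).index *
        (Nat.card ↥(V ⊓ centralizer (A : Set G)) * Nat.card ↥(A ⊓ centralizer (V : Set G))) ≤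
        Nat.card (im h A) * (Nat.card ↥(V ⊓ centralizer (A : Set G)) * Nat.card ↥(A ⊓ centralizer (V : Set G))) := by
      calc _ = Nat.card ↥(V ⊓ centralizer (A : Set G)) * (ClassTwoFusion.Quad.cv V (im h A : Set (XX h))).index *
            Nat.card ↥(A ⊓ centralizer (V : Set G)) := by ring
        _ ≤ Nat.card (im h A) * Nat.card ↥(A ⊓ centralizer (V : Set G)) *
            Nat.card ↥(V ⊓ centralizer (A : Set G)) := h3
        _ = _ := by ring
    exact Nat.le_of_mul_le_mul_right h6 (Nat.mul_pos h5 h4)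

theorem noOverM_of [Finite G] (h : H ≤ normalizer (V : Set G)) (hn : ANoOver (XX h) V) : NoOverM V H := by
  intro A hA he
  have h1 := card_im h hA
  have h2 := card_cv_im h hA
  have h3 : Nat.card (im h A) ≤ (ClassTwoFusion.Quad.cv V (im h A : Set (XX h))).index :=
    hn _ (im_comm_of_elemM h hA he) (im_sq_of_elemM h hA he)
  rw [← h1, ← h2]
  calc _ = Nat.card (im h A) * (Nat.card ↥(V ⊓ centralizer (A : Set G)) * Nat.card ↥(A ⊓ centralizer (V : Set G))) := by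
        ring
    _ ≤ (ClassTwoFusion.Quad.cv V (im h A : Set (XX h))).index *
        (Nat.card ↥(V ⊓ centralizer (A : Set G)) * Nat.card ↥(A ⊓ centralizer (V : Set G))) :=
        Nat.mul_le_mul_right _ h3
    _ = _ := by ring

/-- **bridge B2, natural case, module form** -/
noncomputable def natKM_of [Finite G] {T : Subgroup G} (hTH : T ≤ H) (h : H ≤ normalizer (zl T H : Set G))
    {S : Subgroup (XX h)}
    (hS : ∀ x : XX h, x ∈ S ↔ ∃ t : H, (t : G) ∈ T ∧ pr h t = x) {F : Type} [Field F] {k : ℕ}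
    (a : AbsNat F S (zl T H) k) : NatKM F T H (zl T H) (cv T H) k where
  toNatK := natK_of hTH h hS a
  offM A hA ho := by
    obtain ⟨I, h1, h2⟩ := a.off (im h A) (by
      rintro _ ⟨t, ht, rfl⟩
      exact (hS _).2 ⟨t, hA ht, rfl⟩) (aoff_of_offM h (hA.trans hTH) ho)
    refine ⟨I, fun t ht => ?_, fun b hb => ?_⟩
    · obtain ⟨b, hb, hb'⟩ := h1 (pr h ⟨t, hTH (hA ht)⟩) ⟨⟨t, hTH (hA ht)⟩, ht, rfl⟩
      exact ⟨b, hb, (actsSL_of h a.e (hTH (hA ht)) _).2 hb'⟩
    · obtain ⟨_, ⟨⟨t, ht⟩, htA, rfl⟩, hb'⟩ := h2 b hb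
      exact ⟨t, htA, (actsSL_of h a.e ht _).2 hb'⟩

/-- **bridge B2, symmetric case, module form** -/
noncomputable def symKM_of [Finite G] {T : Subgroup G} (hTH : T ≤ H) (h : H ≤ normalizer (zl T H : Set G))
    {S : Subgroup (XX h)}
    (hS : ∀ x : XX h, x ∈ S ↔ ∃ t : H, (t : G) ∈ T ∧ pr h t = x) {k m : ℕ}
    (a : AbsSym S (zl T H) k m) : SymKM T H (zl T H) (cv T H) k m where
  toSymK := symK_of hTH h hS a
  offM A hA ho := by
    obtain ⟨h1, h2⟩ := a.off (im h A) (by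
      rintro _ ⟨t, ht, rfl⟩
      exact (hS _).2 ⟨t, hA ht, rfl⟩) (aoff_of_offM h (hA.trans hTH) ho)
    refine ⟨fun t ht => (cen_iff h (hTH (hA ht))).2 (h1 _ ⟨⟨t, hTH (hA ht)⟩, ht, rfl⟩), fun t ht => ?_⟩
    obtain ⟨τ, h3, h4⟩ := h2 (pr h ⟨t, hTH (hA ht)⟩) ⟨⟨t, hTH (hA ht)⟩, ht, rfl⟩
    refine ⟨τ, (actsSym_of h a.e (hTH (hA ht)) 1 τ).2 h3, fun i x hx => ?_⟩
    obtain ⟨h5, _, ⟨⟨b, hb⟩, hbA, rfl⟩, h6⟩ := h4 i x hx
    exact ⟨h5, b, hbA, (actsSym_of h a.e hb _ _).2 h6⟩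

/-- **the abstract FF theorem implies the FF theorem, module form** -/
theorem stmtM_of (hA : AStmt.{u}) : FFThm.StmtM.{u} := by
  intro G _ _ T H hT hmin h2 ⟨A, hAH, ho⟩
  have h : H ≤ normalizer (zl T H : Set G) := MinSimple.VModule.le_normalizer_zl T H
  have hc : ¬ H ≤ centralizer (zl T H : Set G) := fun h1 => ho.ne (hAH.trans h1)
  obtain ⟨S, M, hM, hS⟩ := abs_of hT hmin h2 hc h
  obtain ⟨h3, h4⟩ := hA (XX h) (zl T H) S M hM ⟨im h A, aoff_of_offM h hAH ho⟩
  refine ⟨noOverM_of h h3, ?_⟩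
  rcases h4 with ⟨F, i1, i2, i3, k, hk, ⟨a⟩⟩ | ⟨k, m, hk, hm, ⟨a⟩⟩
  · exact Or.inl ⟨F, i1, i2, i3, k, hk, ⟨natKM_of hmin.le h hS a⟩⟩
  · exact Or.inr ⟨k, m, hk, hm, ⟨symKM_of hmin.le h hS a⟩⟩

end Cfsg.Agent.Omega.FFBr

end

section


/-!
# The FF theorem on a submodule (helper621, for #16868)

`H` a minimal parabolic over its Sylow 2-subgroup `T`, `W` an elementary abelian 2-group normalised by `H`, generated
by the `H`-conjugates of `C_W(T)`, `O₂(H) ≤ C(W)`, `H ≰ C(W)`.  The abstract FF theorem `FFBr.AStmt` applies to the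
action of `H` on `W` (for instance `W = ⟨z^H⟩`, `z ∈ Ω₁(Z(T))`).

* `abs_sub` : `FFBr.abs_of` for `W`;
* `noOverM_sub` : if some subgroup of `H` offends on `W`, there is no over-offender on `W` and the conclusion of the
  abstract FF theorem holds.
-/

set_option autoImplicit false
set_option linter.unusedSectionVars false

namespace Cfsg.Agent.Omega.NOThreeL.SubFF

open Subgroup Cfsg Cfsg.Agent.ZN Cfsg.Agent.ZN.ChoiceBase Cfsg.Agent.ZN.ChoiceSit Cfsg.Agent.Omega.MinPar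
open Cfsg.Agent.Omega.FrameFF Cfsg.Agent.MinSimple.MinParabolic Cfsg.Agent.Omega.FFThm Cfsg.Agent.Omega.FFBr

universe u

variable {G : Type u} [Group G] [Finite G] {H T W : Subgroup G}

/-- The hypotheses on `W`. -/
structure Sub (T H W : Subgroup G) : Prop where
  syl : Syl T H
  min : IsMinPar T H
  norm : H ≤ normalizer (W : Set G)
  comm : W ≤ centralizer (W : Set G)
  sq : ∀ v ∈ W, v ^ 2 = 1
  o2 : o2 H ≤ centralizer (W : Set G)
  gen : ∀ K : Subgroup G, (∀ g ∈ H, ∀ z ∈ W, (∀ t ∈ T, t * z = z * t) → g * z * g⁻¹ ∈ K) → W ≤ K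
  ne : ¬ H ≤ centralizer (W : Set G)

namespace Sub

variable (s : Sub T H W)
include s

theorem exists_moved : ∃ z ∈ W, (∀ t ∈ T, t * z = z * t) ∧ ∃ g ∈ H, g * z ≠ z * g := by
  by_contra hcon
  push Not at hcon
  apply s.ne
  rw [le_centralizer_iff]
  refine s.gen _ fun g hg z hz hzT => ?_
  have h1 : g * z * g⁻¹ = z := by rw [hcon z hz hzT g hg, mul_inv_cancel_right]
  rw [h1, mem_centralizer_iff]
  exact fun y hy => hcon z hz hzT y hy

theorem sup_ne : (centralizer (W : Set G)).subgroupOf H ⊔ T.subgroupOf H ≠ ⊤ := by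
  intro h
  obtain ⟨z, hz, hzT, g, hg, hgz⟩ := s.exists_moved
  have h2 : (centralizer (W : Set G)).subgroupOf H ⊔ T.subgroupOf H ≤ (centralizer ({z} : Set G)).subgroupOf H := by
    refine sup_le (comap_mono (centralizer_le (Set.singleton_subset_iff.2 hz))) (comap_mono fun t ht => ?_)
    rw [mem_centralizer_iff]
    rintro _ rfl
    exact (hzT t ht).symm
  rw [h, top_le_iff, subgroupOf_eq_top] at h2
  exact hgz (mem_centralizer_iff.1 (h2 hg) z rfl).symm

theorem abs_sub : ∃ (S : Sylow 2 (XX s.norm)) (M : Subgroup (XX s.norm)), Abs (XX s.norm) W S M ∧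
      ∀ x : XX s.norm, x ∈ S ↔ ∃ t : H, (t : G) ∈ T ∧ pr s.norm t = x := by
  have hT := s.syl
  have hmin := s.min
  set h := s.norm with hh
  have hfact : Fact (Nat.Prime 2) := ⟨Nat.prime_two⟩
  obtain ⟨P, hP⟩ := syl_iff.1 hT
  have hTP : T.subgroupOf H = (P : Subgroup H) := by
    rw [← hP, Subgroup.subgroupOf, comap_map_eq_self_of_injective H.subtype_injective]
  obtain ⟨M₀, hM₀, hM₁⟩ := hmin.exists_max
  set M₁ : Subgroup H := M₀.subgroupOf H with hM₁'
  have hm : IsMin (P : Subgroup H) M₁ := by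
    refine ⟨fun h1 => hM₀.not_ge (subgroupOf_eq_top.1 h1), fun K hK hK1 => ?_⟩
    have h3 : K.map H.subtype ≤ M₀ := by
      apply hM₁
      · rw [← hP]; exact map_mono hK
      · refine lt_of_le_of_ne (map_subtype_le _) fun h4 => hK1 ?_
        have h5 := comap_map_eq_self_of_injective H.subtype_injective K
        rw [h4] at h5
        rw [← h5]
        exact subgroupOf_self H
    rw [hM₁', Subgroup.subgroupOf, ← map_le_iff_le_comap]
    exact h3
  -- the kernel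
  set C : Subgroup H := (centralizer (W : Set G)).subgroupOf H with hC
  have hker : (pr h).ker = C := ker_pr h
  have hCn : C.Normal := by rw [← hker]; infer_instance
  have hCP : C ⊔ (P : Subgroup H) ≠ ⊤ := by rw [← hTP]; exact s.sup_ne
  have hCM : C ≤ M₁ := le_sup_left.trans (hm.le_of _ le_sup_right hCP)
  have hPM : (P : Subgroup H) ≤ M₁ := le_sup_right.trans (hm.le_of _ le_sup_right hCP)
  have hMc : (M₁.map (pr h)).comap (pr h) = M₁ := by
    rw [comap_map_eq, hker, sup_eq_left]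
    exact hCM
  refine ⟨P.mapSurjective (pr_surjective h), M₁.map (pr h), ?_, ?_⟩
  · refine
      { comm := fun v w => Subtype.ext (mem_centralizer_iff.1 (s.comm w.2) v v.2)
        sq := fun v => Subtype.ext (by
          have := s.sq v v.2
          rw [pow_two] at this
          exact this)
        faith := faith h
        core := ?_
        TM := by
          rw [Sylow.coe_mapSurjective]
          exact map_mono hPM
        Mne := ?_
        max := ?_
        gen := ?_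
        nfix := ?_ }
    · intro N hN hN2
      set N' : Subgroup H := N.comap (pr h) with hN'
      have hN'n : N'.Normal := hN.comap _
      have hCN : C ≤ N' := by rw [← hker]; exact (pr h).ker_le_comap N
      have h5 : ¬ N' ⊔ (P : Subgroup H) = ⊤ := by
        intro h6
        apply hCP
        have h7 : N ⊔ (P : Subgroup H).map (pr h) = ⊤ := by
          have := congrArg (Subgroup.map (pr h)) h6
          rw [Subgroup.map_sup, map_top_of_surjective _ (pr_surjective h), hN',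
            map_comap_eq_self_of_surjective (pr_surjective h)] at this
          exact this
        have h8 : IsPGroup 2 (⊤ : Subgroup (XX h)) := by
          rw [← h7]
          exact hN2.to_sup_of_normal_left (P.isPGroup'.map _)
        have h9 : (P : Subgroup H).map (pr h) = ⊤ := by
          have h10 := (P.mapSurjective (pr_surjective h)).is_maximal' h8 le_top
          rw [Sylow.coe_mapSurjective] at h10
          exact h10.symm
        have h11 := congrArg (Subgroup.comap (pr h)) h9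
        rw [comap_map_eq, hker, comap_top, sup_comm] at h11
        exact h11
      have h6 := (sup_eq_top_or_inf_le hm N').resolve_left h5
      have h7 : (P : Subgroup H) ⊓ N' ≤ C := by
        refine h6.trans ?_
        rw [hC, Subgroup.subgroupOf, ← map_le_iff_le_comap]
        exact s.o2
      rw [eq_bot_iff]
      intro x hx
      obtain ⟨g, rfl⟩ := pr_surjective h x
      have h8 : N ≤ (P.mapSurjective (pr_surjective h) : Sylow 2 (XX h)) := by
        have h9 : IsPGroup 2 ((P.mapSurjective (pr_surjective h) : Subgroup (XX h)) ⊔ N : Subgroup (XX h)) :=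
          (P.mapSurjective (pr_surjective h)).isPGroup'.to_sup_of_normal_right hN2
        exact le_sup_right.trans_eq ((P.mapSurjective (pr_surjective h)).is_maximal' h9 le_sup_left)
      have h9 := h8 hx
      rw [Sylow.coe_mapSurjective] at h9
      obtain ⟨p, hp, hpg⟩ := h9
      have h10 : p ∈ C := h7 ⟨hp, show pr h p ∈ N by rw [hpg]; exact hx⟩
      rw [← hker, MonoidHom.mem_ker, hpg] at h10
      rw [h10]
      exact one_mem _
    · intro h5
      apply hm.ne_top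
      rw [← hMc, h5, comap_top]
    · intro K hK
      rw [Sylow.coe_mapSurjective, map_le_iff_le_comap] at hK
      by_cases hK1 : K.comap (pr h) = ⊤
      · right
        rw [← map_comap_eq_self_of_surjective (pr_surjective h) K, hK1,
          map_top_of_surjective _ (pr_surjective h)]
      · left
        have h5 := hm.le_of _ hK hK1
        rw [← map_comap_eq_self_of_surjective (pr_surjective h) K]
        exact map_mono h5
    · intro X hX
      have h5 : W ≤ X.map W.subtype := by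
        refine s.gen _ fun g hg z hz hzT => ?_
        refine ⟨pr h ⟨g, hg⟩ • ⟨z, hz⟩, hX _ ?_ _, rfl⟩
        intro t ht
        obtain ⟨t, ht, rfl⟩ := ht
        rw [pr_smul_eq_iff]
        have ht' : t ∈ T.subgroupOf H := by rw [hTP]; exact ht
        exact hzT _ (mem_subgroupOf.1 ht')
      rw [eq_top_iff]
      intro v _
      obtain ⟨w, hw, hwv⟩ := h5 v.2
      have : w = v := Subtype.ext hwv
      rw [← this]
      exact hw
    · obtain ⟨z, hz, hzT, g, hg, hgz⟩ := s.exists_moved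
      refine ⟨⟨z, hz⟩, ?_, pr h ⟨g, hg⟩, ?_⟩
      · intro t ht
        obtain ⟨t, ht, rfl⟩ := ht
        rw [pr_smul_eq_iff]
        have ht' : t ∈ T.subgroupOf H := by rw [hTP]; exact ht
        exact hzT _ (mem_subgroupOf.1 ht')
      · rw [Ne, pr_smul_eq_iff]
        exact hgz
  · intro x
    constructor
    · rintro ⟨t, ht, rfl⟩
      have ht' : t ∈ T.subgroupOf H := by rw [hTP]; exact ht
      exact ⟨t, mem_subgroupOf.1 ht', rfl⟩
    · rintro ⟨t, ht, rfl⟩
      refine ⟨t, ?_, rfl⟩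
      have ht' : t ∈ T.subgroupOf H := mem_subgroupOf.2 ht
      rw [hTP] at ht'
      exact ht'

/-- **The FF theorem on `W`.** -/
theorem noOverM (hA : AStmt.{u}) {A : Subgroup G} (hAH : A ≤ H) (ho : OffM W A) :
    NoOverM W H ∧ ∃ S : Subgroup (XX s.norm), (∀ x : XX s.norm, x ∈ S ↔ ∃ t : H, (t : G) ∈ T ∧ pr s.norm t = x) ∧
      AConcl S W := by
  obtain ⟨S, M, hM, hS⟩ := s.abs_sub
  obtain ⟨h3, h4⟩ := hA (XX s.norm) W S M hM ⟨im s.norm A, aoff_of_offM s.norm hAH ho⟩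
  exact ⟨noOverM_of s.norm h3, S, hS, h4⟩

end Sub

end Cfsg.Agent.Omega.NOThreeL.SubFF

end
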