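import Cfsg.Agent.Mrg.Omega.VP


/-!
# SQ0: from `IsMinPar T H`, `V = zl T H` to a faithful action (bridge B1)

`XX h` : the group induced by `H` on `V` (`h : H ≤ N(V)`), `pr h : H →* XX h`.
`Abs X V T M` : `X` finite acts faithfully on the elementary abelian 2-group `V`, `T` a Sylow 2-subgroup of `X`, `M` the
unique maximal subgroup of `X` over `T`, `O₂(X) = 1`, `V = ⟨C_V(T)^X⟩ ≠ C_V(X)`.
`abs_of` : this holds for the action of `H` on `zl T H`.
-/

set_option autoImplicit false
set_option linter.unusedSectionVars false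

namespace Cfsg.Agent.Omega.FFBr

open Subgroup Cfsg Cfsg.Agent.ZN Cfsg.Agent.ZN.ChoiceBase Cfsg.Agent.ZN.ChoiceSit Cfsg.Agent.Omega.MinPar
open Cfsg.Agent.Omega.FrameFF Cfsg.Agent.MinSimple.MinParabolic Cfsg.Agent.Omega.FFThm

universe u

variable {G : Type u} [Group G] {H V : Subgroup G}

/-- the action of `H` on `V` -/
def act (h : H ≤ normalizer (V : Set G)) : H →* MulAut V := V.normalizerMonoidHom.comp (inclusion h)

/-- the group induced by `H` on `V` -/
abbrev XX (h : H ≤ normalizer (V : Set G)) : Subgroup (MulAut V) := (act h).range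

/-- the projection -/
def pr (h : H ≤ normalizer (V : Set G)) : H →* XX h := (act h).rangeRestrict

theorem pr_surjective (h : H ≤ normalizer (V : Set G)) : Function.Surjective (pr h) := (act h).rangeRestrict_surjective

theorem coe_pr_smul (h : H ≤ normalizer (V : Set G)) (g : H) (v : V) : ((pr h g • v : V) : G) = g * v * (g : G)⁻¹ := rfl

theorem pr_smul_eq_iff (h : H ≤ normalizer (V : Set G)) {g : H} {v : V} : pr h g • v = v ↔ (g : G) * v = v * g := by
  rw [Subtype.ext_iff, coe_pr_smul, mul_inv_eq_iff_eq_mul]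

theorem pr_eq_one (h : H ≤ normalizer (V : Set G)) {g : H} : pr h g = 1 ↔ (g : G) ∈ centralizer (V : Set G) := by
  constructor
  · intro h1
    rw [mem_centralizer_iff]
    intro v hv
    have h2 : pr h g • (⟨v, hv⟩ : V) = ⟨v, hv⟩ := by rw [h1, one_smul]
    exact ((pr_smul_eq_iff h).1 h2).symm
  · intro h1
    apply Subtype.ext
    apply MulEquiv.ext
    intro v
    apply Subtype.ext
    show (g : G) * v * (g : G)⁻¹ = v
    rw [mul_inv_eq_iff_eq_mul]
    exact (mem_centralizer_iff.1 h1 v v.2).symm

theorem ker_pr (h : H ≤ normalizer (V : Set G)) : (pr h).ker = (centralizer (V : Set G)).subgroupOf H := by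
  ext g
  rw [MonoidHom.mem_ker, mem_subgroupOf, pr_eq_one]

/-- `XX h` acts faithfully -/
theorem faith (h : H ≤ normalizer (V : Set G)) (x : XX h) (hx : ∀ v : V, x • v = v) : x = 1 := by
  apply Subtype.ext
  apply MulEquiv.ext
  exact hx

section abs

variable [Finite G] {T : Subgroup G}

theorem zl_le_of {K : Subgroup G} (h : ∀ g ∈ H, ∀ z ∈ zc T, g * z * g⁻¹ ∈ K) : zl T H ≤ K := by
  refine iSup_le fun g => ?_
  rintro _ ⟨z, hz, rfl⟩
  exact h g g.2 z hz

/-- `H` moves an element of `Ω₁(Z(T))` -/
theorem exists_moved (hc : ¬ H ≤ centralizer (zl T H : Set G)) : ∃ z ∈ zc T, ∃ g ∈ H, g * z ≠ z * g := by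
  by_contra hcon
  push Not at hcon
  apply hc
  rw [le_centralizer_iff]
  refine zl_le_of fun g hg z hz => ?_
  have h1 : g * z * g⁻¹ = z := by rw [hcon z hz g hg, mul_inv_cancel_right]
  rw [h1, mem_centralizer_iff]
  exact fun y hy => hcon z hz y hy

/-- `C_H(V) T ≠ H` -/
theorem sup_ne (hc : ¬ H ≤ centralizer (zl T H : Set G)) :
    (centralizer (zl T H : Set G)).subgroupOf H ⊔ T.subgroupOf H ≠ ⊤ := by
  intro h
  obtain ⟨z, hz, g, hg, hgz⟩ := exists_moved hc
  have h2 : (centralizer (zl T H : Set G)).subgroupOf H ⊔ T.subgroupOf H ≤ (centralizer (zc T : Set G)).subgroupOf H :=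
    sup_le (comap_mono (centralizer_le (MinSimple.VModule.zc_le_zl T H)))
      (comap_mono (MinSimple.VModule.le_centralizer_zc T))
  rw [h, top_le_iff, subgroupOf_eq_top] at h2
  exact hgz (mem_centralizer_iff.1 (h2 hg) z hz).symm

/-- **bridge B1** -/
theorem abs_of (hT : Syl T H) (hmin : IsMinPar T H) (h2 : H ⊓ centralizer (o2 H : Set G) ≤ o2 H)
    (hc : ¬ H ≤ centralizer (zl T H : Set G)) (h : H ≤ normalizer (zl T H : Set G)) :
    ∃ (S : Sylow 2 (XX h)) (M : Subgroup (XX h)), Abs (XX h) (zl T H) S M ∧
      ∀ x : XX h, x ∈ S ↔ ∃ t : H, (t : G) ∈ T ∧ pr h t = x := by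
  have hfact : Fact (Nat.Prime 2) := ⟨Nat.prime_two⟩
  obtain ⟨P, hP⟩ := syl_iff.1 hT
  have hTP : T.subgroupOf H = (P : Subgroup H) := by
    rw [← hP, Subgroup.subgroupOf, comap_map_eq_self_of_injective H.subtype_injective]
  obtain ⟨M₀, hM₀, hM₁⟩ := hmin.exists_max
  set M₁ : Subgroup H := M₀.subgroupOf H with hM₁'
  have hm : IsMin (P : Subgroup H) M₁ := by
    refine ⟨fun h1 => hM₀.not_ge (subgroupOf_eq_top.1 h1), fun K hK hK1 => ?_⟩
    have h3 : K.map H.subtype ≤ M₀ := by
      apply hM₁
      · rw [← hP]; exact map_mono hK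
      · refine lt_of_le_of_ne (map_subtype_le _) fun h4 => hK1 ?_
        have h5 := comap_map_eq_self_of_injective H.subtype_injective K
        rw [h4] at h5
        rw [← h5]
        exact subgroupOf_self H
    rw [hM₁', Subgroup.subgroupOf, ← map_le_iff_le_comap]
    exact h3
  -- the kernel
  set C : Subgroup H := (centralizer (zl T H : Set G)).subgroupOf H with hC
  have hker : (pr h).ker = C := ker_pr h
  have hCn : C.Normal := by rw [← hker]; infer_instance
  have hCP : C ⊔ (P : Subgroup H) ≠ ⊤ := by rw [← hTP]; exact sup_ne hc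
  have hCM : C ≤ M₁ := le_sup_left.trans (hm.le_of _ le_sup_right hCP)
  have hPM : (P : Subgroup H) ≤ M₁ := le_sup_right.trans (hm.le_of _ le_sup_right hCP)
  have hz2 := MinSimple.VModule.zl_comm hmin.le (hT.2.1) (syl_not_dvd hT) h2
  have hz3 := MinSimple.VModule.zl_sq hmin.le (hT.2.1) (syl_not_dvd hT) h2
  have hcen := MinSimple.VModule.o2_le_centralizer_zl hmin.le (hT.2.1) (syl_not_dvd hT) h2
  have hMc : (M₁.map (pr h)).comap (pr h) = M₁ := by
    rw [comap_map_eq, hker, sup_eq_left]
    exact hCM
  refine ⟨P.mapSurjective (pr_surjective h), M₁.map (pr h), ?_, ?_⟩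
  · refine
      { comm := fun v w => Subtype.ext (hz2 v v.2 w w.2)
        sq := fun v => Subtype.ext (by
          have := hz3 v v.2
          rw [sq] at this
          exact this)
        faith := faith h
        core := ?_
        TM := by
          rw [Sylow.coe_mapSurjective]
          exact map_mono hPM
        Mne := ?_
        max := ?_
        gen := ?_
        nfix := ?_ }
    · intro N hN hN2
      -- `N' = ` the preimage
      set N' : Subgroup H := N.comap (pr h) with hN'
      have hN'n : N'.Normal := hN.comap _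
      have hCN : C ≤ N' := by rw [← hker]; exact (pr h).ker_le_comap N
      have h5 : ¬ N' ⊔ (P : Subgroup H) = ⊤ := by
        intro h6
        apply hCP
        -- `N` is a 2-group, so `X` is a 2-group
        have h7 : N ⊔ (P : Subgroup H).map (pr h) = ⊤ := by
          have := congrArg (Subgroup.map (pr h)) h6
          rw [Subgroup.map_sup, map_top_of_surjective _ (pr_surjective h), hN',
            map_comap_eq_self_of_surjective (pr_surjective h)] at this
          exact this
        have h8 : IsPGroup 2 (⊤ : Subgroup (XX h)) := by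
          rw [← h7]
          exact hN2.to_sup_of_normal_left (P.isPGroup'.map _)
        have h9 : (P : Subgroup H).map (pr h) = ⊤ := by
          have h10 := (P.mapSurjective (pr_surjective h)).is_maximal' h8 le_top
          rw [Sylow.coe_mapSurjective] at h10
          exact h10.symm
        have h11 := congrArg (Subgroup.comap (pr h)) h9
        rw [comap_map_eq, hker, comap_top, sup_comm] at h11
        exact h11
      have h6 := (sup_eq_top_or_inf_le hm N').resolve_left h5
      -- `P ∩ N' ≤ O₂(H) ≤ C`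
      have h7 : (P : Subgroup H) ⊓ N' ≤ C := by
        refine h6.trans ?_
        rw [hC, Subgroup.subgroupOf, ← map_le_iff_le_comap]
        exact hcen
      -- `N'/C` is a 2-group
      rw [eq_bot_iff]
      intro x hx
      obtain ⟨g, rfl⟩ := pr_surjective h x
      -- `N = (P ∩ N') image`
      have h8 : N ≤ (P.mapSurjective (pr_surjective h) : Sylow 2 (XX h)) := by
        have h9 : IsPGroup 2 ((P.mapSurjective (pr_surjective h) : Subgroup (XX h)) ⊔ N : Subgroup (XX h)) :=
          (P.mapSurjective (pr_surjective h)).isPGroup'.to_sup_of_normal_right hN2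
        exact le_sup_right.trans_eq ((P.mapSurjective (pr_surjective h)).is_maximal' h9 le_sup_left)
      have h9 := h8 hx
      rw [Sylow.coe_mapSurjective] at h9
      obtain ⟨p, hp, hpg⟩ := h9
      have h10 : p ∈ C := h7 ⟨hp, show pr h p ∈ N by rw [hpg]; exact hx⟩
      rw [← hker, MonoidHom.mem_ker, hpg] at h10
      rw [h10]
      exact one_mem _
    · intro h5
      apply hm.ne_top
      rw [← hMc, h5, comap_top]
    · intro K hK
      rw [Sylow.coe_mapSurjective, map_le_iff_le_comap] at hK
      by_cases hK1 : K.comap (pr h) = ⊤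
      · right
        rw [← map_comap_eq_self_of_surjective (pr_surjective h) K, hK1,
          map_top_of_surjective _ (pr_surjective h)]
      · left
        have h5 := hm.le_of _ hK hK1
        rw [← map_comap_eq_self_of_surjective (pr_surjective h) K]
        exact map_mono h5
    · intro W hW
      have h5 : zl T H ≤ W.map (zl T H).subtype := by
        refine zl_le_of fun g hg z hz => ?_
        have hz' : z ∈ zl T H := MinSimple.VModule.zc_le_zl T H hz
        refine ⟨pr h ⟨g, hg⟩ • ⟨z, hz'⟩, hW _ ?_ _, rfl⟩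
        intro t ht
        obtain ⟨t, ht, rfl⟩ := ht
        rw [pr_smul_eq_iff]
        have ht' : t ∈ T.subgroupOf H := by rw [hTP]; exact ht
        exact (MinSimple.VModule.mem_zc.1 hz).2.1 _ (mem_subgroupOf.1 ht')
      rw [eq_top_iff]
      intro v _
      obtain ⟨w, hw, hwv⟩ := h5 v.2
      have : w = v := Subtype.ext hwv
      rw [← this]
      exact hw
    · obtain ⟨z, hz, g, hg, hgz⟩ := exists_moved hc
      have hz' : z ∈ zl T H := MinSimple.VModule.zc_le_zl T H hz
      refine ⟨⟨z, hz'⟩, ?_, pr h ⟨g, hg⟩, ?_⟩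
      · intro t ht
        obtain ⟨t, ht, rfl⟩ := ht
        rw [pr_smul_eq_iff]
        have ht' : t ∈ T.subgroupOf H := by rw [hTP]; exact ht
        exact (MinSimple.VModule.mem_zc.1 hz).2.1 _ (mem_subgroupOf.1 ht')
      · rw [Ne, pr_smul_eq_iff]
        exact hgz
  · intro x
    constructor
    · rintro ⟨t, ht, rfl⟩
      have ht' : t ∈ T.subgroupOf H := by rw [hTP]; exact ht
      exact ⟨t, mem_subgroupOf.1 ht', rfl⟩
    · rintro ⟨t, ht, rfl⟩
      refine ⟨t, ?_, rfl⟩
      have ht' : t ∈ T.subgroupOf H := mem_subgroupOf.2 ht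
      rw [hTP] at ht'
      exact ht'

end abs

end Cfsg.Agent.Omega.FFBr
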